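import Mathlib

/-!
# Central extensions by transfer of bilinear cocycles

For a subgroup `P` and two homomorphisms `f`, `g` from `P` to a cyclic group of order `p`:

* `cocy`: the corestriction of the cocycle `f(a) g(b)`;
* `TExt`: the central extension of the group by `ZMod p` given by `cocy`;
* `cocy_swap`: for abelian `P` of odd order whose fusion is by `±1`, commutators of lifts of `P` are
  the index times the determinant.
-/

set_option autoImplicit false

namespace CfsgLib.InertialTwo

open scoped Classical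

universe u

variable {G : Type u} [Group G] {P : Subgroup G} {p : ℕ}

/-- The additive value of a homomorphism to a cyclic group. -/
def fA (f : P →* Multiplicative (ZMod p)) (a : P) : ZMod p := (f a).toAdd

theorem fA_mul (f : P →* Multiplicative (ZMod p)) (a b : P) : fA f (a * b) = fA f a + fA f b := by
  simp [fA, toAdd_mul]

theorem fA_one (f : P →* Multiplicative (ZMod p)) : fA f 1 = 0 := by
  simp [fA]

theorem fA_inv (f : P →* Multiplicative (ZMod p)) (a : P) : fA f a⁻¹ = -fA f a := by
  simp [fA, toAdd_inv]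

/-- The element of `P` attached to a group element and a coset. -/
noncomputable def kk (P : Subgroup G) (g : G) (i : G ⧸ P) : P :=
  ⟨(Quotient.out (g • i))⁻¹ * g * Quotient.out i, by
    rw [mul_assoc]
    refine QuotientGroup.eq.mp ?_
    rw [QuotientGroup.out_eq']
    conv_lhs => rw [← QuotientGroup.out_eq' i]
    rfl⟩

theorem coe_kk (g : G) (i : G ⧸ P) :
    (kk P g i : G) = (Quotient.out (g • i))⁻¹ * g * Quotient.out i := rfl

theorem kk_mul (g h : G) (i : G ⧸ P) : kk P (g * h) i = kk P g (h • i) * kk P h i := by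
  apply Subtype.ext
  rw [Subgroup.coe_mul, coe_kk, coe_kk, coe_kk, mul_smul]
  group

theorem kk_one (i : G ⧸ P) : kk P 1 i = 1 := by
  apply Subtype.ext
  simp [coe_kk]

variable [Fintype (G ⧸ P)] (f g : P →* Multiplicative (ZMod p))

/-- The corestricted cocycle. -/
noncomputable def cocy (a b : G) : ZMod p :=
  ∑ i : G ⧸ P, fA f (kk P a (b • i)) * fA g (kk P b i)

theorem sum_smul_reindex {M : Type*} [AddCommMonoid M] (a : G) (F : G ⧸ P → M) :
    ∑ i : G ⧸ P, F (a • i) = ∑ i, F i :=
  Fintype.sum_equiv (MulAction.toPerm a) _ _ fun _ => rfl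

theorem cocy_assoc (a b c : G) :
    cocy f g a b + cocy f g (a * b) c = cocy f g b c + cocy f g a (b * c) := by
  have h := (sum_smul_reindex c fun i => fA f (kk P a (b • i)) * fA g (kk P b i)).symm
  simp only [cocy] at h ⊢
  rw [h]
  simp only [kk_mul, fA_mul, mul_smul, add_mul, mul_add, Finset.sum_add_distrib]
  ring

theorem cocy_one_left (b : G) : cocy f g 1 b = 0 := by simp [cocy, kk_one, fA_one]

theorem cocy_one_right (a : G) : cocy f g a 1 = 0 := by simp [cocy, kk_one, fA_one]

/-- The central extension. -/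
@[ext] structure TExt (f g : P →* Multiplicative (ZMod p)) : Type u where
  /-- the image in the group -/
  fst : G
  /-- the central coordinate -/
  snd : ZMod p

namespace TExt

noncomputable instance : Mul (TExt f g) :=
  ⟨fun x y => ⟨x.fst * y.fst, x.snd + y.snd + cocy f g x.fst y.fst⟩⟩
instance : One (TExt f g) := ⟨⟨1, 0⟩⟩
noncomputable instance : Inv (TExt f g) :=
  ⟨fun x => ⟨x.fst⁻¹, -x.snd - cocy f g x.fst⁻¹ x.fst⟩⟩

variable {f g}

theorem mul_fst (x y : TExt f g) : (x * y).fst = x.fst * y.fst := rfl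
theorem mul_snd (x y : TExt f g) :
    (x * y).snd = x.snd + y.snd + cocy f g x.fst y.fst := rfl
omit [Fintype (G ⧸ P)] in
theorem one_fst : (1 : TExt f g).fst = 1 := rfl
omit [Fintype (G ⧸ P)] in
theorem one_snd : (1 : TExt f g).snd = 0 := rfl
theorem inv_fst (x : TExt f g) : x⁻¹.fst = x.fst⁻¹ := rfl
theorem inv_snd (x : TExt f g) : x⁻¹.snd = -x.snd - cocy f g x.fst⁻¹ x.fst := rfl

noncomputable instance : Group (TExt f g) where
  mul_assoc x y z := by
    ext
    · simp [mul_fst, mul_assoc]
    · simp only [mul_snd, mul_fst]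
      linear_combination cocy_assoc f g x.fst y.fst z.fst
  one_mul x := by ext <;> simp [mul_fst, mul_snd, one_fst, one_snd, cocy_one_left]
  mul_one x := by ext <;> simp [mul_fst, mul_snd, one_fst, one_snd, cocy_one_right]
  inv_mul_cancel x := by
    ext
    · simp [mul_fst, inv_fst, one_fst]
    · simp only [mul_snd, inv_snd, inv_fst, one_snd]; ring

/-- The projection. -/
noncomputable def proj : TExt f g →* G where
  toFun := TExt.fst
  map_one' := rfl
  map_mul' _ _ := rfl

theorem proj_apply (x : TExt f g) : proj x = x.fst := rfl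

/-- The underlying set. -/
def equivProd (f g : P →* Multiplicative (ZMod p)) : TExt f g ≃ G × ZMod p where
  toFun x := (x.fst, x.snd)
  invFun x := ⟨x.1, x.2⟩
  left_inv _ := rfl
  right_inv _ := rfl

theorem ker_le_center {z : TExt f g} (hz : z.fst = 1) (x : TExt f g) : x * z = z * x := by
  ext
  · simp [mul_fst, hz]
  · simp [mul_snd, hz, cocy_one_left, cocy_one_right, add_comm]

theorem snd_mul_of_fst_one {z : TExt f g} (hz : z.fst = 1) (x : TExt f g) :
    (z * x).snd = z.snd + x.snd := by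
  simp [mul_snd, hz, cocy_one_left]

end TExt

/-! ## Commutators on `P` -/

omit [Fintype (G ⧸ P)] in
theorem exists_gauge (hab : ∀ a b : P, a * b = b * a) (hodd : ∀ a : P, a * a = 1 → a = 1)
    (hfus : ∀ a b : P, IsConj (a : G) (b : G) → b = a ∨ b = a⁻¹) :
    ∃ (s : G ⧸ P → ZMod p) (cf : (P →* Multiplicative (ZMod p)) → G ⧸ P → ZMod p),
      (∀ (a : P) (i : G ⧸ P), s ((a : G) • i) = s i) ∧ (∀ i, s i * s i = 1) ∧
      ∀ (ℓ : P →* Multiplicative (ZMod p)) (a : P) (i : G ⧸ P),
        fA ℓ (kk P (a : G) i) = s i * fA ℓ a + cf ℓ ((a : G) • i) - cf ℓ i := by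
  let r : G ⧸ P → G ⧸ P := fun i =>
    Quotient.out (Quotient.mk (MulAction.orbitRel P (G ⧸ P)) i)
  have hr : ∀ i, ∃ a : P, (a : G) • r i = i := by
    intro i
    have h := Quotient.mk_out (s := MulAction.orbitRel P (G ⧸ P)) i
    rw [MulAction.orbitRel_apply] at h
    obtain ⟨a, ha⟩ := h
    refine ⟨a⁻¹, ?_⟩
    show ((a⁻¹ : P) : G) • r i = i
    have ha' : (a : G) • i = r i := ha
    rw [← ha', Subgroup.coe_inv, inv_smul_smul]
  have hrinv : ∀ (a : P) (i : G ⧸ P), r ((a : G) • i) = r i := by
    intro a i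
    show Quotient.out _ = Quotient.out _
    rw [Quotient.sound (s := MulAction.orbitRel P (G ⧸ P)) (show (a : G) • i ∈ MulAction.orbit P i from ⟨a, rfl⟩)]
  choose t ht using hr
  have hsign : ∀ i : G ⧸ P, ∃ s : ZMod p, s * s = 1 ∧
      ∀ (ℓ : P →* Multiplicative (ZMod p)) (a : P), (a : G) • i = i →
        fA ℓ (kk P (a : G) i) = s * fA ℓ a := by
    intro i
    have hphi : ∀ a : P, (a : G) • i = i → kk P (a : G) i = a ∨ kk P (a : G) i = a⁻¹ := by
      intro a ha
      refine hfus a _ (isConj_iff.mpr ⟨(Quotient.out i)⁻¹, ?_⟩)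
      rw [coe_kk, ha, inv_inv]
    by_cases hall : ∀ a : P, (a : G) • i = i → kk P (a : G) i = a
    · exact ⟨1, one_mul _, fun ℓ a ha => by rw [hall a ha, one_mul]⟩
    push Not at hall
    obtain ⟨a₀, ha₀, hne⟩ := hall
    have h0 := (hphi a₀ ha₀).resolve_left hne
    have hne1 : a₀ * a₀ ≠ 1 := fun h => hne (by rw [h0, hodd a₀ h, inv_one])
    refine ⟨-1, by ring, fun ℓ a ha => ?_⟩
    suffices h : kk P (a : G) i = a⁻¹ by rw [h, fA_inv, neg_one_mul]
    rcases hphi a ha with h1 | h1
    · have hprod : ((a₀ * a : P) : G) • i = i := by rw [Subgroup.coe_mul, mul_smul, ha, ha₀]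
      have hmul : kk P ((a₀ * a : P) : G) i = a₀⁻¹ * a := by
        rw [Subgroup.coe_mul, kk_mul, ha, h0, h1]
      rcases hphi (a₀ * a) hprod with h2 | h2
      · exfalso
        rw [hmul] at h2
        have h3 : a₀⁻¹ = a₀ := mul_right_cancel h2
        exact hne1 (by nth_rewrite 1 [← h3]; exact inv_mul_cancel a₀)
      · rw [hmul, mul_inv_rev, hab a⁻¹] at h2
        have h3 : a = a⁻¹ := mul_left_cancel h2
        rw [h1]
        exact h3
    · exact h1
  choose s hs2 hs using hsign
  refine ⟨fun i => s (r i), fun ℓ i => fA ℓ (kk P (t i : G) (r i)) - s (r i) * fA ℓ (t i),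
    fun a i => by simp only [hrinv], fun i => hs2 _, fun ℓ a i => ?_⟩
  simp only [hrinv]
  set b : P := t ((a : G) • i) with hb
  have hb' : (b : G) • r i = (a : G) • i := by rw [hb, ← hrinv a i]; exact ht _
  set c : P := b⁻¹ * (a * t i) with hc
  have hcfix : (c : G) • r i = r i := by
    rw [hc, Subgroup.coe_mul, Subgroup.coe_mul, Subgroup.coe_inv, mul_smul, mul_smul, ht i, ← hb',
      inv_smul_smul]
  have e1 : kk P ((a * t i : P) : G) (r i) = kk P (a : G) i * kk P (t i : G) (r i) := by
    rw [Subgroup.coe_mul, kk_mul, ht i]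
  have e2 : kk P ((a * t i : P) : G) (r i) = kk P (b : G) (r i) * kk P (c : G) (r i) := by
    rw [show a * t i = b * c by rw [hc, mul_inv_cancel_left], Subgroup.coe_mul, kk_mul, hcfix]
  have e3 : fA ℓ c = fA ℓ a + fA ℓ (t i) - fA ℓ b := by
    rw [hc, fA_mul, fA_mul, fA_inv]; ring
  have e4 := congrArg (fA ℓ) (e1.symm.trans e2)
  rw [fA_mul, fA_mul, hs (r i) ℓ c hcfix, e3] at e4
  linear_combination e4

theorem cocy_swap (hab : ∀ a b : P, a * b = b * a) (hodd : ∀ a : P, a * a = 1 → a = 1)
    (hfus : ∀ a b : P, IsConj (a : G) (b : G) → b = a ∨ b = a⁻¹) (a b : P) :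
    cocy f g (a : G) (b : G) - cocy f g (b : G) (a : G) =
      (P.index : ZMod p) * (fA f a * fA g b - fA f b * fA g a) := by
  obtain ⟨s, cf, hsinv, hs2, hk⟩ := exists_gauge (p := p) hab hodd hfus
  have hz : ∀ (ℓ : P →* Multiplicative (ZMod p)) (x : P), ∑ i, s i * (cf ℓ ((x : G) • i) - cf ℓ i) = 0 := by
    intro ℓ x
    simp only [mul_sub, Finset.sum_sub_distrib]
    rw [sub_eq_zero]
    calc ∑ i, s i * cf ℓ ((x : G) • i) = ∑ i, s ((x : G) • i) * cf ℓ ((x : G) • i) :=
          Finset.sum_congr rfl fun i _ => by rw [hsinv]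
      _ = _ := sum_smul_reindex (x : G) fun i => s i * cf ℓ i
  have key : ∀ x y : P, cocy f g (x : G) (y : G) = (P.index : ZMod p) * (fA f x * fA g y) +
      ∑ i, (cf f (((x * y : P) : G) • i) - cf f ((y : G) • i)) * (cf g ((y : G) • i) - cf g i) := by
    intro x y
    have h1 : ∀ i, fA f (kk P (x : G) ((y : G) • i)) * fA g (kk P (y : G) i) =
        fA f x * fA g y + fA f x * (s i * (cf g ((y : G) • i) - cf g i)) +
          fA g y * (s ((y : G) • i) * (cf f ((x : G) • (y : G) • i) - cf f ((y : G) • i))) +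
          (cf f (((x * y : P) : G) • i) - cf f ((y : G) • i)) * (cf g ((y : G) • i) - cf g i) := by
      intro i
      rw [hk f x ((y : G) • i), hk g y i, hsinv, Subgroup.coe_mul, mul_smul]
      linear_combination fA f x * fA g y * hs2 i
    rw [cocy, Finset.sum_congr rfl fun i _ => h1 i]
    simp only [Finset.sum_add_distrib, ← Finset.mul_sum, Finset.sum_const, Finset.card_univ,
      nsmul_eq_mul]
    rw [hz g y, sum_smul_reindex (y : G) fun j => s j * (cf f ((x : G) • j) - cf f j), hz f x,
      Subgroup.index_eq_card, Nat.card_eq_fintype_card]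
    ring
  rw [key a b, key b a, hab b a]
  have hfac : ∀ x : P, ∑ i, cf f ((x : G) • i) * cf g ((x : G) • i) = ∑ i, cf f i * cf g i :=
    fun x => sum_smul_reindex (x : G) fun i => cf f i * cf g i
  have h4 : ∀ x y : P, ∑ i, cf f (((x * y : P) : G) • i) * cf g ((y : G) • i) =
      ∑ i, cf f ((x : G) • i) * cf g i := by
    intro x y
    rw [← sum_smul_reindex (y : G) fun i => cf f ((x : G) • i) * cf g i]
    exact Finset.sum_congr rfl fun i _ => by rw [Subgroup.coe_mul, mul_smul]
  have h5 := h4 b a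
  rw [hab b a] at h5
  simp only [sub_mul, mul_sub, Finset.sum_sub_distrib, hfac, h4 a b, h5]
  ring

end CfsgLib.InertialTwo
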