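import Cfsg.Agent.Lib.BlockArith.FreeSylowMain
import Cfsg.Agent.Lib.Transfer.Abelian
import Cfsg.Agent.Lib.Blocks.GaloisInv

/-!
# An abelian Sylow subgroup inverted by its normaliser

* `exists_inverting`: with `|N(P) : C(P)| = 2` and no `p`-quotient, the normaliser inverts `P`;
* `exists_delta`: the principal block has an irreducible `ξ ≠ 1` equal to a sign `a` on all singular elements;
* `sum_sext_ind`: counts of elements whose `p`-part is conjugate into a subgroup of `P`.
-/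

set_option autoImplicit false

noncomputable section

namespace CfsgLib.InertialTwo

open Cfsg CfsgLib.Blocks CfsgLib.Char CfsgLib.FreeSylow CfsgLib.Star
open scoped ComplexConjugate Classical commutatorElement

universe u

variable {G : Type u} [Group G] [Fintype G] {p : ℕ} [hp : Fact p.Prime] {P : Sylow p G}

omit [Fintype G] in
theorem eq_one_of_sq [Finite G] (hp2 : p ≠ 2) (a : (P : Subgroup G)) (h : a * a = 1) : a = 1 := by
  obtain ⟨k, hk⟩ := IsPGroup.iff_orderOf.mp P.isPGroup' a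
  have h2 : orderOf a ∣ 2 := orderOf_dvd_of_pow_eq_one (by rw [pow_two, h])
  refine orderOf_eq_one_iff.mp (Nat.eq_one_of_dvd_coprimes ?_ dvd_rfl h2)
  rw [hk]
  exact Nat.Coprime.pow_left k ((Nat.coprime_primes hp.out Nat.prime_two).mpr hp2)

/-- The normaliser inverts. -/
structure Inverted (P : Sylow p G) : Prop where
  hp2 : p ≠ 2
  hab : IsMulCommutative (P : Subgroup G)
  hm : (Subgroup.centralizer ((P : Subgroup G) : Set G)).relIndex
      (Subgroup.normalizer ((P : Subgroup G) : Set G)) = 2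
  hinv : ∀ γ ∈ autN P, γ = 1 ∨ ∀ w, γ w = w⁻¹

omit [Fintype G] in
theorem inverted_of_residual [Finite G] (hp2 : p ≠ 2) (hab : IsMulCommutative (P : Subgroup G))
    (hm : (Subgroup.centralizer ((P : Subgroup G) : Set G)).relIndex
      (Subgroup.normalizer ((P : Subgroup G) : Set G)) = 2)
    (hres : pResidual p G = ⊤) : Inverted P := by
  have := Fintype.ofFinite G
  have := hab
  refine ⟨hp2, hab, hm, ?_⟩
  have hc : ∀ a b : (P : Subgroup G), a * b = b * a := hab.is_comm.comm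
  have h2 : Nat.card (autN P) = 2 := card_autN hm
  have hone : ∀ γ ∈ autN P, ∀ δ ∈ autN P, γ ≠ 1 → δ ≠ 1 → δ = γ := by
    intro γ hγ δ hδ hγ1 hδ1
    obtain ⟨u, v, huv, hset⟩ := Nat.card_eq_two_iff.mp h2
    have e : ∀ z : autN P, z = u ∨ z = v := fun z => by
      have : z ∈ ({u, v} : Set (autN P)) := hset ▸ Set.mem_univ z
      simpa using this
    rcases e ⟨γ, hγ⟩ with h | h <;> rcases e ⟨δ, hδ⟩ with h' | h' <;> rcases e 1 with h1 | h1 <;>
      first
      | exact congrArg Subtype.val (h'.trans h.symm)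
      | exact absurd (congrArg Subtype.val (h.trans h1.symm)) hγ1
      | exact absurd (congrArg Subtype.val (h'.trans h1.symm)) hδ1
  intro γ hγ
  by_cases hγ1 : γ = 1
  · exact Or.inl hγ1
  refine Or.inr ?_
  let φ : (P : Subgroup G) →* (P : Subgroup G) := MonoidHom.mk' (fun w => γ w * w⁻¹) fun a b => by
    rw [map_mul, mul_inv_rev, mul_assoc, mul_assoc, ← mul_assoc (γ b), hc (γ b * b⁻¹) a⁻¹]
  have hle : ⁅(P : Subgroup G), Subgroup.normalizer ((P : Subgroup G) : Set G)⁆ ≤
      φ.range.map (P : Subgroup G).subtype := by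
    rw [Subgroup.commutator_le]
    intro a ha n hn
    set δ := (P : Subgroup G).normalizerMonoidHom ⟨n, hn⟩ with hδ
    have hδmem : δ ∈ autN P := ⟨_, rfl⟩
    have hval : ⁅a, n⁆ = ((⟨a, ha⟩ * δ ⟨a, ha⟩⁻¹ : (P : Subgroup G)) : G) := by
      rw [commutatorElement_def, Subgroup.coe_mul]
      show a * n * a⁻¹ * n⁻¹ = a * (n * a⁻¹ * n⁻¹)
      group
    rw [hval]
    by_cases hδ1 : δ = 1
    · rw [hδ1, MulAut.one_apply, mul_inv_cancel, Subgroup.coe_one]
      exact Subgroup.one_mem _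
    · refine ⟨_, ⟨⟨a, ha⟩⁻¹, rfl⟩, ?_⟩
      show ((γ ⟨a, ha⟩⁻¹ * (⟨a, ha⟩⁻¹)⁻¹ : (P : Subgroup G)) : G) = _
      rw [inv_inv, hc, hone γ hγ δ hδmem hγ1 hδ1]
  intro u
  have hmem : (u : G) ∈ φ.range.map (P : Subgroup G).subtype := by
    refine hle ?_
    have h := CfsgLib.Transfer.inf_pResidual_eq_commutator P hab
    rw [hres, inf_top_eq] at h
    exact h ▸ u.2
  obtain ⟨_, ⟨w, rfl⟩, hw⟩ := hmem
  have hu : γ w * w⁻¹ = u := Subtype.ext hw
  rw [← hu, map_mul, map_inv, mul_inv_rev, inv_inv]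
  have hsq : γ (γ w) = w := by
    have h : (⟨γ, hγ⟩ : autN P) ^ 2 = 1 := by rw [← h2]; exact pow_card_eq_one'
    have h' := congrArg (fun z : autN P => (z : MulAut (P : Subgroup G)) w) h
    simpa [pow_two] using h'
  rw [hsq]

namespace Inverted

theorem free (I : Inverted P) : Free P := by
  refine ⟨I.hab, fun y hy hy1 => le_antisymm ?_ ?_⟩
  · rintro n ⟨hny, hn⟩
    set γ := (P : Subgroup G).normalizerMonoidHom ⟨n, hn⟩ with hγ
    have hfix : γ ⟨y, hy⟩ = ⟨y, hy⟩ := by
      refine Subtype.ext ?_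
      show n * y * n⁻¹ = y
      rw [(Subgroup.mem_centralizer_singleton_iff.mp hny), mul_inv_cancel_right]
    rcases I.hinv γ ⟨_, rfl⟩ with h | h
    · refine Subgroup.mem_centralizer_iff.mpr fun w hw => ?_
      have h' := congrArg (fun z : MulAut (P : Subgroup G) => ((z ⟨w, hw⟩ : (P : Subgroup G)) : G)) h
      have h'' : n * w * n⁻¹ = w := h'
      exact (mul_inv_eq_iff_eq_mul.mp h'').symm
    · exfalso
      rw [h] at hfix
      refine hy1 (congrArg Subtype.val (eq_one_of_sq I.hp2 (⟨y, hy⟩ : (P : Subgroup G)) ?_))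
      nth_rewrite 1 [← hfix]
      exact inv_mul_cancel _
  · intro n hn
    refine ⟨?_, ?_⟩
    · exact Subgroup.mem_centralizer_singleton_iff.mpr (Subgroup.mem_centralizer_iff.mp hn y hy).symm
    · exact Subgroup.centralizer_le_normalizer _ hn

theorem fus (I : Inverted P) {a b : (P : Subgroup G)} (h : IsConj (a : G) (b : G)) :
    b = a ∨ b = a⁻¹ := by
  obtain ⟨γ, hγ, rfl⟩ := I.free.exists_autN h
  rcases I.hinv γ hγ with h | h
  · left; rw [h]; rfl
  · right; exact h a

omit [Fintype G] hp in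
theorem stable_of_inv (I : Inverted P) {η : ↥(P : Subgroup G) → ℂ} (h : ∀ w, η w⁻¹ = η w) :
    Stable P η := by
  intro γ hγ w
  rcases I.hinv γ hγ with h1 | h1
  · rw [h1]; rfl
  · rw [h1, h]

omit hp in
theorem exists_inverting (I : Inverted P) : ∃ x : G,
    x ∈ Subgroup.normalizer ((P : Subgroup G) : Set G) ∧ ∀ w ∈ (P : Subgroup G), x * w * x⁻¹ = w⁻¹ := by
  have h2 : Nat.card (autN P) = 2 := card_autN I.hm
  have : Nontrivial (autN P) := Finite.one_lt_card_iff_nontrivial.mp (by omega)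
  obtain ⟨γ, hγ⟩ := exists_ne (1 : autN P)
  obtain ⟨n, hn, h⟩ := mem_autN_iff.mp γ.2
  refine ⟨n, hn, fun w hw => ?_⟩
  rcases I.hinv γ.1 γ.2 with h1 | h1
  · exact absurd (Subtype.ext h1) hγ
  · exact (h ⟨w, hw⟩).symm.trans (congrArg Subtype.val (h1 _))

/-- The virtual character `1 - aξ`. -/
theorem exists_delta (I : Inverted P) (hq : 9 ≤ Nat.card (P : Subgroup G)) :
    ∃ (ξ : IrrCharacter G) (a : ℤ), (a = 1 ∨ a = -1) ∧ (ξ : G → ℂ) ≠ (fun _ => 1) ∧
      ∀ g : G, p ∣ orderOf g → (ξ : G → ℂ) g = (a : ℂ) := by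
  obtain ⟨M, hM⟩ := exists_isPModular (p := p) hp.out
  have : M.IsMaximal := hM.2.1
  have : Fintype (autN P) := Fintype.ofFinite _
  obtain ⟨s, X, Y, hs, -, -, hXs, -, ⟨χ₁, hχ₁X, hχ₁⟩, a, d, δ, ζ, hδ, hXval, -, -, -, -, hnorm, -, -⟩ :=
    I.free.exists_structure hM (by omega) I.hm (by omega) (by omega)
  have hfin : X.Finite := Set.toFinite X
  rw [finsum_mem_eq_finite_toFinset_sum _ hfin] at hnorm
  set q := Nat.card (P : Subgroup G) with hqd
  have hJ : (4 : ℤ) ≤ ((q : ℤ) - 1) / (2 : ℕ) := by omega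
  obtain ⟨y, hy, hy1⟩ : ∃ y ∈ (P : Subgroup G), y ≠ 1 := by
    by_contra! h
    have : (P : Subgroup G) = ⊥ := (Subgroup.eq_bot_iff_forall _).mpr h
    rw [hqd, this, Subgroup.card_bot] at hq
    omega
  have ha1 : a χ₁ = 1 := by
    have h := (hXval χ₁ hχ₁X).2 y y (isPPart_self hp.out (CfsgLib.NilBlock.exists_pow_of_mem P.isPGroup' hy)) hy hy1
    rw [hχ₁] at h
    have h' : (1 : ℂ) = (a χ₁ : ℂ) := h
    exact_mod_cast h'.symm
  have hsplit := Finset.add_sum_erase hfin.toFinset (fun χ => a χ ^ 2) (hfin.mem_toFinset.mpr hχ₁X)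
  have hrest : (0 : ℤ) ≤ ∑ χ ∈ hfin.toFinset.erase χ₁, a χ ^ 2 := Finset.sum_nonneg fun _ _ => sq_nonneg _
  have hd0 : d = 0 := by
    by_contra h
    have h1 : (0 : ℤ) < d ^ 2 := by positivity
    rw [ha1] at hsplit
    push_cast at hnorm hJ
    nlinarith [sq_nonneg (d - δ)]
  subst hd0
  have hδ2 : ((0 : ℤ) - δ) ^ 2 = 1 := by rcases hδ with h | h <;> subst h <;> norm_num
  rw [hδ2, zero_pow two_ne_zero, mul_zero, add_zero, ← hsplit, ha1] at hnorm
  push_cast at hnorm
  have hsum : ∑ χ ∈ hfin.toFinset.erase χ₁, a χ ^ 2 = 1 := by linarith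
  obtain ⟨ξ, hξ⟩ : (hfin.toFinset.erase χ₁).Nonempty := by
    by_contra h
    rw [Finset.not_nonempty_iff_eq_empty.mp h, Finset.sum_empty] at hsum
    omega
  have hξX : ξ ∈ X := hfin.mem_toFinset.mp (Finset.mem_of_mem_erase hξ)
  have hle := Finset.single_le_sum (f := fun χ => a χ ^ 2) (fun _ _ => sq_nonneg _) hξ
  have hpos := sq_pos_of_ne_zero (hXval ξ hξX).1
  have hsq : a ξ ^ 2 = 1 := by
    simp only [hsum] at hle
    omega
  refine ⟨ξ, a ξ, sq_eq_one_iff.mp hsq, fun h => Finset.ne_of_mem_erase hξ (Subtype.ext (h.trans hχ₁.symm)),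
    fun g hg => ?_⟩
  obtain ⟨c, hc⟩ := exists_conj_mem P (exists_pow_ppart (p := p) g)
  have hne : c * ppart p g * c⁻¹ ≠ 1 := by
    intro h
    have h1 : ppart p g = 1 := by
      have := congrArg (fun z => c⁻¹ * z * c) h
      simpa [mul_assoc] using this
    exact (isPPart_one_iff.mp (h1 ▸ isPPart_ppart g)) hg
  have h := (hXval ξ hξX).2 (c * g * c⁻¹) (c * ppart p g * c⁻¹) (isPPart_conj (isPPart_ppart g) c) hc hne
  rwa [isClassFunction_of_isIrr ξ.2 g c] at h

/-- The indicator of a subgroup. -/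
def ind (Q : Subgroup (P : Subgroup G)) (w : (P : Subgroup G)) : ℂ := if w ∈ Q then 1 else 0

theorem stable_ind (I : Inverted P) (Q : Subgroup (P : Subgroup G)) : Stable P (ind Q) :=
  I.stable_of_inv fun w => by simp [ind]

/-- Counting the elements whose `p`-part is conjugate into `Q`. -/
theorem sum_sext_ind (I : Inverted P) (Q : Subgroup (P : Subgroup G)) :
    ∑ g : G, sext P (ind Q) g = (Nat.card G : ℂ) *
      ((Nat.card (P : Subgroup G) : ℂ) + (Nat.card Q : ℂ)) / (2 * (Nat.card (P : Subgroup G) : ℂ)) := by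
  set q : ℂ := (Nat.card (P : Subgroup G) : ℂ) with hq
  have hq0 : q ≠ 0 := card_ne_zero'
  have hG : (Nat.card G : ℂ) ≠ 0 := card_ne_zero'
  have hone : sext P (fun _ => (1 : ℂ)) = fun _ : G => (1 : ℂ) := funext fun g => by
    obtain ⟨w, -, h⟩ := I.free.exists_sext (η := fun _ => (1 : ℂ)) (fun _ _ _ => rfl) g
    exact h
  have hsum : ∀ R : Subgroup (P : Subgroup G),
      ∑ g : G, (sext P (ind R) g - sext P (ind ⊥) g) = (Nat.card G : ℂ) * ((Nat.card R : ℂ) - 1) / (2 * q) := by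
    intro R
    have hst : Stable P (fun w => ind R w - ind ⊥ w) := fun γ hγ w => by
      show ind R (γ w) - ind ⊥ (γ w) = _
      rw [I.stable_ind R γ hγ w, I.stable_ind ⊥ γ hγ w]
    have h := I.free.inner_sext_sext I.hm hst (by simp [ind]) (η' := fun _ => (1 : ℂ)) fun _ _ _ => rfl
    rw [hone, classInner_def] at h
    simp only [map_one, mul_one] at h
    have hpt : ∀ g : G, sext P (fun w => ind R w - ind ⊥ w) g = sext P (ind R) g - sext P (ind ⊥) g := by
      intro g
      obtain ⟨w, hw, h1⟩ := I.free.exists_sext hst g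
      rw [h1, I.free.sext_eq (I.stable_ind R) hw, I.free.sext_eq (I.stable_ind ⊥) hw]
    have hcount : ∀ S : Subgroup (P : Subgroup G), ∑ w : (P : Subgroup G), ind S w = (Nat.card S : ℂ) := by
      intro S
      simp only [ind, Finset.sum_boole, Nat.card_eq_fintype_card, Fintype.card_subtype]
    rw [Finset.sum_congr rfl fun g _ => hpt g, Finset.sum_sub_distrib (f := fun w => ind R w),
      hcount R, hcount ⊥, Subgroup.card_bot] at h
    push_cast at h
    field_simp at h ⊢
    linear_combination h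
  have htop : sext P (ind (⊤ : Subgroup (P : Subgroup G))) = fun _ : G => (1 : ℂ) := funext fun g => by
    obtain ⟨w, -, h⟩ := I.free.exists_sext (I.stable_ind ⊤) g
    rw [h]
    simp [ind]
  have h1 := hsum ⊤
  have h2 := hsum Q
  rw [htop, Finset.sum_sub_distrib, Subgroup.card_top, Finset.sum_const, Finset.card_univ, nsmul_one,
    ← Nat.card_eq_fintype_card, ← hq] at h1
  rw [Finset.sum_sub_distrib] at h2
  field_simp at h1 h2 ⊢
  linear_combination h2 - h1

end Inverted

end CfsgLib.InertialTwo
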