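import Cfsg.Agent.Lib.BlockArith.FreeSylow
import Cfsg.Agent.Lib.Char.Generalized

/-!
# Extension of fusion-invariant functions of a Sylow subgroup along `p`-parts
-/

set_option autoImplicit false

noncomputable section

namespace CfsgLib.InertialTwo

open Cfsg CfsgLib.Blocks CfsgLib.BlockArith CfsgLib.Char CfsgLib.FreeSylow CfsgLib.Star
open scoped ComplexConjugate Classical

variable {G : Type*} [Group G] [Fintype G] {p : ℕ} [hp : Fact p.Prime] {P : Sylow p G}

/-- Constant on the fusion classes. -/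
def FusInv (P : Sylow p G) (η : ↥(P : Subgroup G) → ℂ) : Prop :=
  ∀ w w' : (P : Subgroup G), IsConj (w : G) (w' : G) → η w = η w'

theorem sext_eq {η : ↥(P : Subgroup G) → ℂ} (hη : FusInv P η) {g : G}
    {w : (P : Subgroup G)} (h : IsConj (ppart p g) (w : G)) : sext P η g = η w := by
  obtain ⟨x, hx⟩ := isConj_iff.mp h
  have hex : ∃ x : G, x * ppart p g * x⁻¹ ∈ (P : Subgroup G) := ⟨x, by rw [hx]; exact w.2⟩
  rw [sext, dif_pos hex]
  exact hη _ w ((isConj_iff.mpr ⟨hex.choose, rfl⟩).symm.trans h)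

theorem exists_sext {η : ↥(P : Subgroup G) → ℂ} (hη : FusInv P η) (g : G) :
    ∃ w : (P : Subgroup G), IsConj (ppart p g) (w : G) ∧ sext P η g = η w := by
  obtain ⟨x, hx⟩ := exists_conj_mem P (exists_pow_ppart g)
  exact ⟨⟨_, hx⟩, isConj_iff.mpr ⟨x, rfl⟩, sext_eq hη (isConj_iff.mpr ⟨x, rfl⟩)⟩

theorem isClassFunction_sext {η : ↥(P : Subgroup G) → ℂ} (hη : FusInv P η) :
    IsClassFunction G (sext P η) := by
  intro g h
  obtain ⟨w, hw, heq⟩ := exists_sext hη g
  rw [heq]
  refine sext_eq hη ?_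
  rw [ppart_eq (isPPart_conj (isPPart_ppart g) h)]
  exact (isConj_iff.mpr ⟨h, rfl⟩).symm.trans hw

/-- A stable generalised character extends to one of `G`. -/
theorem isGen_sext {η : ↥(P : Subgroup G) → ℂ} (hη : FusInv P η)
    (hgen : IsGeneralizedCharacter (P : Subgroup G) η) : IsGeneralizedCharacter G (sext P η) := by
  refine isGen_of_elementary (isClassFunction_sext hη) fun E q hq hE => ?_
  have := Fintype.ofFinite E
  have := isNilpotent_of_isElementary hq hE
  set a := (Nat.card G).factorization p with ha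
  set m := Nat.card G / p ^ a with hm
  have hpm : ¬ p ∣ m := Nat.not_dvd_ordCompl hp.out Nat.card_pos.ne'
  have hcop : Nat.Coprime m (p ^ a) :=
    ((hp.out.coprime_iff_not_dvd.mpr hpm).pow_left _).symm
  have hcard : Nat.card G ∣ m * p ^ a :=
    dvd_of_eq ((Nat.mul_comm _ _).trans (Nat.ordProj_mul_ordCompl_eq_self _ p)).symm
  have hE' : Nat.card E ∣ m * p ^ a := (Subgroup.card_subgroup_dvd_card E).trans hcard
  let Hs := piSubgroup (G := E) hcop hE'
  let π : E →* Hs := MonoidHom.mk' (fun e => ⟨piPart m (p ^ a) e,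
    piPart_pow_eq_one (pow_eq_one_of_dvd hE' e)⟩) fun a b => Subtype.ext (piPart_mul hcop hE' a b)
  let ι : Hs →* G := E.subtype.comp Hs.subtype
  have hHs : IsPGroup p Hs := by
    obtain ⟨j, -, hj⟩ := (Nat.dvd_prime_pow hp.out).mp (card_piSubgroup_dvd hcop hE')
    exact IsPGroup.of_card hj
  have hrange : IsPGroup p ι.range := hHs.of_surjective ι.rangeRestrict ι.rangeRestrict_surjective
  obtain ⟨S, hS⟩ := hrange.exists_le_sylow
  obtain ⟨x, hx⟩ := MulAction.exists_smul_eq G S P
  have hmem : ∀ e : E, x * ι (π e) * x⁻¹ ∈ (P : Subgroup G) := fun e => by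
    rw [← hx, Sylow.coe_subgroup_smul]
    exact ⟨_, hS ⟨π e, rfl⟩, rfl⟩
  let ψ : E →* (P : Subgroup G) :=
    MonoidHom.mk' (fun e => ⟨x * ι (π e) * x⁻¹, hmem e⟩) fun c d => Subtype.ext (by
      simp [map_mul, mul_assoc])
  have key : (fun e : E => sext P η (e : G)) = η ∘ ψ := by
    funext e
    refine sext_eq hη ?_
    have hpp : IsPPart p (e : G) (ι (π e)) := by
      have he : e ^ (m * p ^ a) = 1 := pow_eq_one_of_dvd hE' e
      refine ⟨((e * (piPart m (p ^ a) e)⁻¹ : E) : G), ?_, ?_, ?_, ?_⟩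
      · show ((piPart m (p ^ a) e : E) : G) * _ = _
        rw [← Subgroup.coe_mul]
        congr 1
        have hc : Commute (piPart m (p ^ a) e) e := (Commute.refl e).zpow_left _
        rw [← mul_assoc, hc.eq, mul_inv_cancel_right]
      · have hc : Commute (piPart m (p ^ a) e) e := (Commute.refl e).zpow_left _
        exact (hc.mul_right (Commute.refl _).inv_right).map E.subtype
      · obtain ⟨j, -, hj⟩ := (Nat.dvd_prime_pow hp.out).mp
          (orderOf_dvd_of_pow_eq_one (piPart_pow_eq_one (m := m) (n := p ^ a) he))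
        exact ⟨j, by rw [← hj]; exact Subgroup.orderOf_coe (piPart m (p ^ a) e)⟩
      · rw [Subgroup.orderOf_coe]
        exact fun hd => hpm (hd.trans (orderOf_dvd_of_pow_eq_one (piPart_compl_pow_eq_one hcop he)))
    rw [ppart_eq hpp]
    exact isConj_iff.mpr ⟨x, rfl⟩
  rw [key]
  exact isGen_comp hgen ψ

end CfsgLib.InertialTwo
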