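import Cfsg.Agent.Lib.InertialTwo.Cover
import Cfsg.Agent.Lib.InertialTwo.Sext
import Cfsg.Agent.Lib.InertialTwo.Delta
import Cfsg.Agent.Lib.CharNormal.ItoCoprime
import Cfsg.Agent.Lib.CharBlocks.Degree
import Cfsg.Agent.Lib.Char.Extension
import Mathlib.Analysis.SpecialFunctions.Complex.CircleAddChar
import Mathlib.Analysis.RCLike.Basic

/-!
# The class-sum identity on the transfer extension

For an inverted noncyclic `P`, an irreducible `ξ` equal to a sign on the singular elements and an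
involution `t`: `(E - 1)(E - α)² = 0` with `E = aξ(1)` and `α = aξ(t)`.
-/

set_option autoImplicit false
set_option maxHeartbeats 1000000

noncomputable section

namespace CfsgLib.InertialTwo

open Cfsg CfsgLib.Blocks CfsgLib.Char CfsgLib.FreeSylow CfsgLib.Star
open scoped ComplexConjugate Classical

universe u

section General

variable {G H : Type*} [Group G] [Group H] {p : ℕ} [hp : Fact p.Prime]

theorem ppart_map [Fintype G] [Fintype H] (φ : G →* H) (g : G) : φ (ppart p g) = ppart p (φ g) := by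
  refine (ppart_eq ?_).symm
  obtain ⟨y, h1, h2, ⟨k, hk⟩, h4⟩ := isPPart_ppart (p := p) g
  refine ⟨φ y, by rw [← map_mul, h1], h2.map φ, ?_, fun hd => h4 (hd.trans (orderOf_map_dvd φ y))⟩
  obtain ⟨j, -, hj⟩ := (Nat.dvd_prime_pow hp.out).mp (hk ▸ orderOf_map_dvd φ (ppart p g))
  exact ⟨j, hj⟩

theorem ppart_mul_central [Fintype G] {u : G} (hc : ∀ x, x * u = u * x) (hu : ∃ k : ℕ, orderOf u = p ^ k)
    (g : G) : ppart p (u * g) = u * ppart p g := by
  refine ppart_eq ?_
  obtain ⟨y, h1, h2, ⟨k, hk⟩, h4⟩ := isPPart_ppart (p := p) g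
  refine ⟨y, by rw [mul_assoc, h1], (show Commute u y from (hc y).symm).mul_left h2, ?_, h4⟩
  obtain ⟨i, hi⟩ := hu
  have hcomm : Commute u (ppart p g) := (hc _).symm
  have hd : orderOf (u * ppart p g) ∣ p ^ (i + k) := by
    refine hcomm.orderOf_mul_dvd_lcm.trans (Nat.lcm_dvd ?_ ?_)
    · rw [hi]; exact pow_dvd_pow p (Nat.le_add_right i k)
    · rw [hk]; exact pow_dvd_pow p (Nat.le_add_left k i)
  obtain ⟨j, -, hj⟩ := (Nat.dvd_prime_pow hp.out).mp hd
  exact ⟨j, hj⟩

theorem norm_sub_smul [Fintype G] (A B : G → ℂ) (c : ℝ) :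
    classInner (A - (c : ℂ) • B) (A - (c : ℂ) • B) =
      classInner A A - c * classInner A B - c * conj (classInner A B) + c * c * classInner B B := by
  rw [classInner_conj_symm]
  simp only [classInner_def, Pi.sub_apply, Pi.smul_apply, smul_eq_mul, map_sub, map_mul, Complex.conj_ofReal,
    Finset.mul_sum, ← Finset.sum_sub_distrib, ← Finset.sum_add_distrib]
  exact Finset.sum_congr rfl fun g _ => by ring

/-- The sum over pairs of conjugates of `t`. -/
def pairSum [Fintype G] (t : G) (F : G → ℂ) : ℂ :=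
  ∑ a : G, ∑ b : G, F (a * t * a⁻¹ * (b * t * b⁻¹))

omit hp in
theorem pairSum_irr [Fintype G] {χ : G → ℂ} (hχ : IsIrrCharacter G χ) (t : G) :
    pairSum t χ = (Nat.card G : ℂ) ^ 2 * (χ t ^ 2 / χ 1) := by
  have hcl := isClassFunction_of_isIrr hχ
  rw [pairSum, Finset.sum_comm,
    Finset.sum_congr rfl fun b _ => (sum_char_conj_mul hχ t (b * t * b⁻¹)).trans (by rw [hcl t b])]
  rw [Finset.sum_const, Finset.card_univ, nsmul_eq_mul, ← Nat.card_eq_fintype_card]
  ring

omit hp in
theorem pairSum_norm_one [Fintype G] {A : G → ℂ} (h : IsGeneralizedCharacter G A)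
    (h1 : classInner A A = 1) (t : G) :
    A 1 ≠ 0 ∧ pairSum t A = (Nat.card G : ℂ) ^ 2 * (A t ^ 2 / A 1) := by
  rcases gen_norm_one h h1 with hi | hi
  · exact ⟨irr_one_ne_zero hi, pairSum_irr hi t⟩
  · have h2 := pairSum_irr hi t
    refine ⟨fun h0 => irr_one_ne_zero hi (by simp [h0]), ?_⟩
    simp only [pairSum, Pi.neg_apply, Finset.sum_neg_distrib, neg_sq, div_neg, mul_neg, neg_inj] at h2
    exact h2

end General

variable {G : Type u} [Group G] [Fintype G] {p : ℕ} [hp : Fact p.Prime] {P : Sylow p G}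

/-- The data of the extension. -/
structure Pair (P : Sylow p G) where
  /-- first coordinate -/
  f : (P : Subgroup G) →* Multiplicative (ZMod p)
  /-- second coordinate -/
  g : (P : Subgroup G) →* Multiplicative (ZMod p)
  /-- dual to `f` -/
  x : (P : Subgroup G)
  /-- dual to `g` -/
  y : (P : Subgroup G)
  fx : f x = Multiplicative.ofAdd 1
  gx : g x = 1
  fy : f y = 1
  gy : g y = Multiplicative.ofAdd 1

variable [Fintype (G ⧸ (P : Subgroup G))] (D : Pair P)

local notation "S" => TExt D.f D.g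

instance : Fintype (TExt D.f D.g) := Fintype.ofEquiv _ (TExt.equivProd D.f D.g).symm

theorem card_S : Nat.card S = Nat.card G * p := by
  rw [Nat.card_congr (TExt.equivProd D.f D.g), Nat.card_prod, Nat.card_zmod]

theorem sum_S (F : G → ℂ) : ∑ s : S, F s.fst = (p : ℂ) * ∑ g : G, F g := by
  rw [← (TExt.equivProd D.f D.g).symm.sum_comp, Fintype.sum_prod_type, Finset.mul_sum]
  refine Finset.sum_congr rfl fun g _ => ?_
  show ∑ _z : ZMod p, F g = _
  rw [Finset.sum_const, Finset.card_univ, ZMod.card, nsmul_eq_mul]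

theorem central {z : S} (hz : z.fst = 1) (s : S) : s * z = z * s := TExt.ker_le_center hz s

theorem order_central {z : S} (hz : z.fst = 1) : ∃ k : ℕ, orderOf z = p ^ k := by
  have h : ∀ n : ℕ, (z ^ n).fst = 1 ∧ (z ^ n).snd = (n : ZMod p) * z.snd := by
    intro n
    induction n with
    | zero => exact ⟨rfl, by simp [TExt.one_snd]⟩
    | succ n ih =>
      rw [pow_succ']
      refine ⟨by rw [TExt.mul_fst, hz, ih.1, one_mul], ?_⟩
      rw [TExt.snd_mul_of_fst_one hz, ih.2]
      push_cast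
      ring
  have hp1 : z ^ p = 1 := TExt.ext (h p).1 (by rw [(h p).2, ZMod.natCast_self, zero_mul]; rfl)
  obtain ⟨j, -, hj⟩ := (Nat.dvd_prime_pow hp.out).mp (show orderOf z ∣ p ^ 1 by
    rw [pow_one]; exact orderOf_dvd_of_pow_eq_one hp1)
  exact ⟨j, hj⟩

/-- The Sylow subgroup of the extension. -/
def PhSub : Subgroup S := (P : Subgroup G).comap TExt.proj

theorem isPGroup_PhSub : IsPGroup p (PhSub D) := by
  refine P.isPGroup'.comap_of_ker_isPGroup _ fun z => ?_
  obtain ⟨k, hk⟩ := order_central D (z := (z : S)) z.2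
  exact ⟨k, Subtype.ext (by rw [SubmonoidClass.coe_pow, ← hk, pow_orderOf_eq_one]; rfl)⟩

theorem proj_surj : Function.Surjective (TExt.proj : S →* G) := fun g => ⟨⟨g, 0⟩, rfl⟩

theorem index_PhSub : (PhSub D).index = (P : Subgroup G).index :=
  Subgroup.index_comap_of_surjective _ (proj_surj D)

/-- The Sylow subgroup of the extension. -/
def Ph : Sylow p S :=
  (isPGroup_PhSub D).toSylow (by rw [index_PhSub]; exact P.not_dvd_index)

theorem mem_Ph {s : S} : s ∈ (Ph D : Subgroup S) ↔ s.fst ∈ (P : Subgroup G) := Iff.rfl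

/-- The image in `P`. -/
def qh : (Ph D : Subgroup S) →* (P : Subgroup G) :=
  (TExt.proj.comp (Ph D : Subgroup S).subtype).codRestrict (P : Subgroup G) fun w => w.2

theorem coe_qh (w : (Ph D : Subgroup S)) : (qh D w : G) = (w : S).fst := rfl

theorem qh_surj : Function.Surjective (qh D) := fun a => ⟨⟨⟨a, 0⟩, a.2⟩, rfl⟩

/-- The radical of the commutator form. -/
def Q : Subgroup (P : Subgroup G) := D.f.ker ⊓ D.g.ker

omit [Fintype (G ⧸ (P : Subgroup G))] in
theorem card_Q : Nat.card (P : Subgroup G) = p * p * Nat.card (Q D) := by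
  have h : Function.Surjective (D.f.prod D.g) := by
    rintro ⟨u, v⟩
    refine ⟨D.x ^ u.toAdd.val * D.y ^ v.toAdd.val, ?_⟩
    simp only [MonoidHom.prod_apply, map_mul, map_pow, D.fx, D.gx, D.fy, D.gy, Prod.pow_mk, Prod.mk_mul_mk,
      one_pow, mul_one, one_mul, ← ofAdd_nsmul, nsmul_one, ZMod.natCast_zmod_val, ofAdd_toAdd]
  have hi : (Q D).index = p * p := by
    rw [show Q D = (D.f.prod D.g).ker from (MonoidHom.ker_prod _ _).symm, Subgroup.index_ker,
      MonoidHom.range_eq_top.mpr h, Subgroup.card_top, Nat.card_prod, Nat.card_eq_fintype_card,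
      Fintype.card_multiplicative, ZMod.card]
  rw [← hi, mul_comm, Subgroup.card_mul_index]

/-- A preimage of the radical in the Sylow subgroup. -/
def W : Subgroup (Ph D : Subgroup S) := (Q D).comap (qh D)

theorem card_W : Nat.card (Ph D : Subgroup S) = p * p * Nat.card (W D) := by
  have h1 := card_Q D
  have h2 : (W D).index = (Q D).index := Subgroup.index_comap_of_surjective _ (qh_surj D)
  have h3 : (Q D).index = p * p := Nat.eq_of_mul_eq_mul_left (Nat.card_pos (α := Q D))
    (by rw [Subgroup.card_mul_index, h1]; ring)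
  rw [← h3, ← h2, mul_comm, Subgroup.card_mul_index]

variable (I : Inverted P)

include I in
theorem swap (a b : (P : Subgroup G)) :
    cocy D.f D.g (a : G) (b : G) - cocy D.f D.g (b : G) (a : G) =
      ((P : Subgroup G).index : ZMod p) * (fA D.f a * fA D.g b - fA D.f b * fA D.g a) :=
  cocy_swap D.f D.g I.hab.is_comm.comm (eq_one_of_sq I.hp2) (fun _ _ => I.fus) a b

include I in
theorem W_central {w : (Ph D : Subgroup S)} (hw : qh D w ∈ Q D) (v : (Ph D : Subgroup S)) :
    v * w = w * v := by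
  have hf : fA D.f (qh D w) = 0 := by simp [fA, MonoidHom.mem_ker.mp hw.1]
  have hg : fA D.g (qh D w) = 0 := by simp [fA, MonoidHom.mem_ker.mp hw.2]
  have hab : (v : S).fst * (w : S).fst = (w : S).fst * (v : S).fst :=
    congrArg Subtype.val (I.hab.is_comm.comm (qh D v) (qh D w))
  refine Subtype.ext (TExt.ext ?_ ?_)
  · simpa [TExt.mul_fst] using hab
  · have h := swap D I (qh D v) (qh D w)
    rw [hf, hg, mul_zero, zero_mul, sub_zero, mul_zero, sub_eq_zero, coe_qh, coe_qh] at h
    simp only [Subgroup.coe_mul, TExt.mul_snd, h]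
    ring

/-- Half. -/
def half (p : ℕ) : ZMod p := (((p + 1) / 2 : ℕ) : ZMod p)

include I in
omit [Fintype G] [Fintype (G ⧸ (P : Subgroup G))] in
theorem two_half : (2 : ZMod p) * half p = 1 := by
  have hodd : p % 2 = 1 := (hp.out.eq_two_or_odd).resolve_left I.hp2
  rw [half, ← Nat.cast_ofNat (R := ZMod p), ← Nat.cast_mul, show 2 * ((p + 1) / 2) = p + 1 by omega,
    Nat.cast_add, ZMod.natCast_self, zero_add, Nat.cast_one]

/-- An element inverting `P`. -/
def xinv : G := I.exists_inverting.choose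

theorem xinv_conj {a : G} (ha : a ∈ (P : Subgroup G)) : xinv I * a * (xinv I)⁻¹ = a⁻¹ :=
  I.exists_inverting.choose_spec.2 a ha

/-- Its lift. -/
def xh : S := ⟨xinv I, 0⟩

theorem xh_conj_fst (w : (Ph D : Subgroup S)) :
    (xh D I * (w : S) * (xh D I)⁻¹).fst = ((w : S).fst)⁻¹ := by
  simp only [TExt.mul_fst, TExt.inv_fst]
  exact xinv_conj I w.2

/-- The symmetrised lift of the central coordinate. -/
def rho (w : (Ph D : Subgroup S)) : ZMod p :=
  ((w : S) * (xh D I * (w : S) * (xh D I)⁻¹)).snd * half p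

theorem fst_sym (w : (Ph D : Subgroup S)) : ((w : S) * (xh D I * (w : S) * (xh D I)⁻¹)).fst = 1 := by
  rw [TExt.mul_fst, xh_conj_fst, mul_inv_cancel]

theorem rho_central {w : (Ph D : Subgroup S)} (hw : (w : S).fst = 1) : rho D I w = (w : S).snd := by
  rw [rho, central D hw (xh D I), mul_inv_cancel_right, TExt.snd_mul_of_fst_one hw]
  calc ((w : S).snd + (w : S).snd) * half p = (w : S).snd * (2 * half p) := by ring
    _ = _ := by rw [two_half I, mul_one]

theorem rho_mul {w : (Ph D : Subgroup S)} (hw : qh D w ∈ Q D) (v : (Ph D : Subgroup S)) :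
    rho D I (v * w) = rho D I v + rho D I w := by
  have hxv : xh D I * (v : S) * (xh D I)⁻¹ ∈ (Ph D : Subgroup S) := by
    rw [mem_Ph, xh_conj_fst]
    exact inv_mem v.2
  have hc : (w : S) * (xh D I * (v : S) * (xh D I)⁻¹) = (xh D I * (v : S) * (xh D I)⁻¹) * (w : S) :=
    congrArg Subtype.val (W_central D I hw ⟨_, hxv⟩).symm
  have h : ((v * w : (Ph D : Subgroup S)) : S) * (xh D I * ((v * w : (Ph D : Subgroup S)) : S) * (xh D I)⁻¹) =
      ((v : S) * (xh D I * (v : S) * (xh D I)⁻¹)) * ((w : S) * (xh D I * (w : S) * (xh D I)⁻¹)) := by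
    rw [Subgroup.coe_mul]
    calc _ = (v : S) * ((w : S) * (xh D I * (v : S) * (xh D I)⁻¹)) * (xh D I * (w : S) * (xh D I)⁻¹) := by group
      _ = _ := by rw [hc]; group
  rw [rho, h, TExt.snd_mul_of_fst_one (fst_sym D I v), add_mul]
  rfl

/-- The standard additive character. -/
abbrev psi : AddChar (ZMod p) ℂ := ZMod.stdAddChar

omit [Fintype G] [Fintype (G ⧸ (P : Subgroup G))] in
theorem psi_conj (z : ZMod p) : psi z * conj (psi z : ℂ) = 1 := by
  rw [← AddChar.map_neg_eq_conj, ← AddChar.map_add_eq_mul, add_neg_cancel, AddChar.map_zero_eq_one]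

/-- `p` times the symmetrised character of the radical. -/
def eta (w : (Ph D : Subgroup S)) : ℂ := if qh D w ∈ Q D then (p : ℂ) * psi (rho D I w) else 0

include I in
/-- Elements fixing a nonidentity element of `P` fix its lifts in the radical. -/
theorem commute_lift {w : (Ph D : Subgroup S)} (hw : qh D w ∈ Q D) {s : S}
    (hs : s.fst * (w : S).fst = (w : S).fst * s.fst) : s * (w : S) = (w : S) * s := by
  let C : Subgroup S := (Subgroup.centralizer ({(w : S).fst} : Set G)).comap TExt.proj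
  have hmem : ∀ c : C, ((c : S) * (w : S) * (c : S)⁻¹ * (w : S)⁻¹).fst = 1 := by
    intro c
    simp only [TExt.mul_fst, TExt.inv_fst]
    rw [show ((c : S).fst) * (w : S).fst = (w : S).fst * (c : S).fst from Subgroup.mem_centralizer_singleton_iff.mp c.2,
      mul_inv_cancel_right, mul_inv_cancel]
  let κ : C →* Multiplicative (ZMod p) := MonoidHom.mk'
    (fun c => Multiplicative.ofAdd ((c : S) * (w : S) * (c : S)⁻¹ * (w : S)⁻¹).snd) fun a b => by
      rw [← ofAdd_add, ← TExt.snd_mul_of_fst_one (hmem a)]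
      congr 2
      set zb := (b : S) * (w : S) * (b : S)⁻¹ * (w : S)⁻¹ with hzb
      have h1 : ((a * b : C) : S) * (w : S) * ((a * b : C) : S)⁻¹ * (w : S)⁻¹ =
          (a : S) * zb * ((w : S) * (a : S)⁻¹ * (w : S)⁻¹) := by
        rw [Subgroup.coe_mul, hzb]; group
      rw [h1, central D (hmem b) (a : S)]
      rw [show zb * (a : S) * ((w : S) * (a : S)⁻¹ * (w : S)⁻¹) =
        zb * ((a : S) * (w : S) * (a : S)⁻¹ * (w : S)⁻¹) by group]
      exact (central D (hmem b) _).symm
  have hle : (Ph D : Subgroup S) ≤ C := fun v hv => by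
    show v.fst ∈ Subgroup.centralizer ({(w : S).fst} : Set G)
    exact Subgroup.mem_centralizer_singleton_iff.mpr
      (congrArg Subtype.val (I.hab.is_comm.comm ⟨v.fst, hv⟩ (qh D w)))
  have hker : ((Ph D).subtype hle : Subgroup C) ≤ κ.ker := by
    intro v hv
    have h := congrArg Subtype.val (W_central D I hw ⟨(v : S), hv⟩)
    rw [MonoidHom.mem_ker]
    show Multiplicative.ofAdd ((v : S) * (w : S) * (v : S)⁻¹ * (w : S)⁻¹).snd = 1
    rw [show (v : S) * (w : S) = (w : S) * (v : S) from h, mul_inv_cancel_right, mul_inv_cancel]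
    rfl
  have hrange : κ.range = ⊥ := by
    refine Subgroup.card_eq_one.mp ?_
    have h1 : Nat.card κ.range ∣ p := by
      have := Subgroup.card_subgroup_dvd_card κ.range
      rwa [Nat.card_eq_fintype_card (α := Multiplicative (ZMod p)), Fintype.card_multiplicative, ZMod.card] at this
    rcases (Nat.dvd_prime hp.out).mp h1 with h | h
    · exact h
    · exfalso
      refine ((Ph D).subtype hle).not_dvd_index ?_
      refine dvd_trans ?_ (Subgroup.index_dvd_of_le hker)
      rw [Subgroup.index_ker, h]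
  have hk : κ ⟨s, Subgroup.mem_centralizer_singleton_iff.mpr hs⟩ = 1 := by
    have h : κ ⟨s, Subgroup.mem_centralizer_singleton_iff.mpr hs⟩ ∈ κ.range := ⟨_, rfl⟩
    rwa [hrange, Subgroup.mem_bot] at h
  have h2 : s * (w : S) * s⁻¹ * (w : S)⁻¹ = 1 :=
    TExt.ext (hmem ⟨s, Subgroup.mem_centralizer_singleton_iff.mpr hs⟩) (congrArg Multiplicative.toAdd hk)
  rwa [mul_inv_eq_one, mul_inv_eq_iff_eq_mul] at h2

theorem fusInv_eta : FusInv (Ph D) (eta D I) := by
  intro w w' h
  obtain ⟨s, hs⟩ := isConj_iff.mp h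
  have hconj : IsConj (qh D w : G) (qh D w' : G) :=
    isConj_iff.mpr ⟨s.fst, congrArg TExt.fst hs⟩
  have hQiff : qh D w' ∈ Q D ↔ qh D w ∈ Q D := by
    rcases I.fus hconj with e | e
    · rw [e]
    · rw [e, inv_mem_iff]
  by_cases hw : qh D w ∈ Q D
  swap
  · rw [eta, eta, if_neg hw, if_neg (hQiff.not.mpr hw)]
  rw [eta, eta, if_pos hw, if_pos (hQiff.mpr hw)]
  suffices h' : rho D I w' = rho D I w by rw [h']
  rcases I.fus hconj with e | e
  · have he : (w' : S).fst = (w : S).fst := congrArg Subtype.val e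
    have hcs : s.fst * (w : S).fst = (w : S).fst * s.fst := by
      have h1 : s.fst * (w : S).fst * s.fst⁻¹ = (w' : S).fst := congrArg TExt.fst hs
      rw [he, mul_inv_eq_iff_eq_mul] at h1
      exact h1
    have hws := commute_lift D I hw hcs
    rw [show w' = w from Subtype.ext (by rw [← hs, hws, mul_inv_cancel_right])]
  · have he : (w' : S).fst = ((w : S).fst)⁻¹ := congrArg Subtype.val e
    set x := xh D I with hx
    have hxs : (x * s).fst * (w : S).fst = (w : S).fst * (x * s).fst := by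
      have h1 : s.fst * (w : S).fst * s.fst⁻¹ = ((w : S).fst)⁻¹ := (congrArg TExt.fst hs).trans he
      have h2 : xinv I * ((w : S).fst)⁻¹ * (xinv I)⁻¹ = (w : S).fst := by
        rw [xinv_conj I (inv_mem (show (w : S).fst ∈ (P : Subgroup G) from w.2)), inv_inv]
      rw [TExt.mul_fst, show x.fst = xinv I from rfl, ← mul_inv_eq_iff_eq_mul, mul_inv_rev]
      calc xinv I * s.fst * (w : S).fst * (s.fst⁻¹ * (xinv I)⁻¹)
          = xinv I * (s.fst * (w : S).fst * s.fst⁻¹) * (xinv I)⁻¹ := by group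
        _ = _ := by rw [h1, h2]
    have h3 : x * (w' : S) * x⁻¹ = (w : S) := by
      have h := commute_lift D I hw hxs
      calc x * (w' : S) * x⁻¹ = x * s * (w : S) * (x * s)⁻¹ := by rw [← hs]; group
        _ = _ := by rw [h, mul_inv_cancel_right]
    have hxx : (x * x).fst * (w : S).fst = (w : S).fst * (x * x).fst := by
      rw [TExt.mul_fst, show x.fst = xinv I from rfl, ← mul_inv_eq_iff_eq_mul, mul_inv_rev]
      calc xinv I * xinv I * (w : S).fst * ((xinv I)⁻¹ * (xinv I)⁻¹)
          = xinv I * (xinv I * (w : S).fst * (xinv I)⁻¹) * (xinv I)⁻¹ := by group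
        _ = _ := by rw [xinv_conj I (show (w : S).fst ∈ (P : Subgroup G) from w.2), xinv_conj I (inv_mem (show (w : S).fst ∈ (P : Subgroup G) from w.2)), inv_inv]
    have h4 : x * (w : S) * x⁻¹ = (w' : S) := by
      have h := commute_lift D I hw hxx
      calc x * (w : S) * x⁻¹ = x⁻¹ * (x * x * (w : S)) * x⁻¹ := by group
        _ = x⁻¹ * ((w : S) * (x * x)) * x⁻¹ := by rw [h]
        _ = x⁻¹ * (w : S) * x := by group
        _ = x⁻¹ * (x * (w' : S) * x⁻¹) * x := by rw [h3]
        _ = (w' : S) := by group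
    rw [rho, rho, ← hx, h3, h4]
    congr 2
    exact congrArg Subtype.val (W_central D I hw w')

include I in
theorem index_ne_zero : ((P : Subgroup G).index : ZMod p) ≠ 0 := fun h =>
  P.not_dvd_index ((ZMod.natCast_eq_zero_iff _ _).mp h)

theorem isGen_eta : IsGeneralizedCharacter (Ph D : Subgroup S) (eta D I) := by
  have hcl : IsClassFunction (Ph D : Subgroup S) (eta D I) := fun w v =>
    (fusInv_eta D I w _ (isConj_iff.mpr ⟨(v : S), rfl⟩)).symm
  refine isGen_of_classInner_int hcl fun χ hχ => ?_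
  have hW : ∀ v : (Ph D : Subgroup S), qh D v ∈ Q D → ∀ w,
      eta D I (v * w) = psi (rho D I v) * eta D I w := by
    intro v hv w
    by_cases hw : qh D w ∈ Q D
    · rw [eta, eta, if_pos (by rw [map_mul]; exact mul_mem hv hw), if_pos hw, rho_mul D I hw,
        AddChar.map_add_eq_mul]
      ring
    · rw [eta, eta, if_neg (fun h => hw (by rw [map_mul] at h; exact (Subgroup.mul_mem_cancel_left _ hv).mp h)),
        if_neg hw, mul_zero]
  obtain ⟨d, hd0, hd⟩ := exists_degree_pos hχ
  set T := ∑ w : (Ph D : Subgroup S), eta D I w * conj (χ w) with hT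
  by_cases hall : ∀ v : (Ph D : Subgroup S), qh D v ∈ Q D → psi (rho D I v) * conj (χ v) = (d : ℂ)
  swap
  · push Not at hall
    obtain ⟨v, hv, hne⟩ := hall
    refine ⟨0, ?_⟩
    have hvc : v ∈ Subgroup.center (Ph D : Subgroup S) :=
      Subgroup.mem_center_iff.mpr fun w => W_central D I hv w
    have h : T = psi (rho D I v) * conj (χ v) / (d : ℂ) * T := by
      rw [hT, Finset.mul_sum, ← Equiv.sum_comp (Equiv.mulLeft v)]
      refine Finset.sum_congr rfl fun w _ => ?_
      rw [Equiv.coe_mulLeft, hW v hv, CfsgLib.CharNormal.apply_central_mul' hχ hvc, hd, map_div₀, map_mul,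
        Complex.conj_natCast]
      ring
    rw [classInner_def, Int.cast_zero, mul_eq_zero]
    right
    by_contra hT0
    refine hne ?_
    have h1 : psi (rho D I v) * conj (χ v) / (d : ℂ) = 1 := mul_right_cancel₀ hT0 (h.symm.trans (one_mul T).symm)
    rwa [div_eq_one_iff_eq (Nat.cast_ne_zero.mpr hd0.ne')] at h1
  have hpd : p ∣ d := by
    have hdvd : d ∣ Nat.card (Ph D : Subgroup S) :=
      (CfsgLib.CharBlocks.charDegree_eq hd) ▸ CfsgLib.CharBlocks.charDegree_dvd_card hχ
    obtain ⟨k, hk⟩ := (Ph D).isPGroup'.exists_card_eq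
    rw [hk] at hdvd
    obtain ⟨j, -, rfl⟩ := (Nat.dvd_prime_pow hp.out).mp hdvd
    rcases Nat.eq_zero_or_pos j with rfl | hj
    · exfalso
      obtain ⟨φ, hφ⟩ := exists_linHom (isCharacter_of_isIrr hχ) (by rw [hd, pow_zero, Nat.cast_one])
      set a : (Ph D : Subgroup S) := ⟨⟨D.x, 0⟩, D.x.2⟩ with ha
      set b : (Ph D : Subgroup S) := ⟨⟨D.y, 0⟩, D.y.2⟩ with hb
      set z : (Ph D : Subgroup S) := ⟨⟨1, cocy D.f D.g (D.x : G) D.y - cocy D.f D.g (D.y : G) D.x⟩,
        (P : Subgroup G).one_mem⟩ with hz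
      have hmul : a * b = z * (b * a) := by
        refine Subtype.ext (TExt.ext ?_ ?_)
        · show (D.x : G) * D.y = 1 * ((D.y : G) * D.x)
          rw [one_mul]
          exact congrArg Subtype.val (I.hab.is_comm.comm D.x D.y)
        · rw [Subgroup.coe_mul, Subgroup.coe_mul, Subgroup.coe_mul,
            TExt.snd_mul_of_fst_one (z := (z : S)) rfl, TExt.mul_snd, TExt.mul_snd]
          show (0 : ZMod p) + 0 + cocy D.f D.g (D.x : G) D.y =
            cocy D.f D.g (D.x : G) D.y - cocy D.f D.g (D.y : G) D.x + (0 + 0 + cocy D.f D.g (D.y : G) D.x)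
          ring
      have hφz : φ z = 1 := by
        have h := congrArg φ hmul
        rw [map_mul, map_mul, map_mul, mul_comm (φ b)] at h
        exact mul_eq_right.mp h.symm
      have hzQ : qh D z ∈ Q D := by
        rw [show qh D z = 1 from Subtype.ext rfl]
        exact one_mem _
      have h := hall z hzQ
      rw [← hφ, linFun_apply, hφz, Units.val_one, map_one, mul_one, pow_zero, Nat.cast_one,
        rho_central D I (w := z) rfl] at h
      have h' : psi ((z : S).snd) = psi (0 : ZMod p) := by rw [h, AddChar.map_zero_eq_one]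
      have h'' := ZMod.injective_stdAddChar h'
      simp only [hz, swap D I, fA, D.fx, D.gx, D.fy, D.gy, toAdd_ofAdd, toAdd_one, mul_one, mul_zero,
        zero_mul, sub_zero] at h''
      exact index_ne_zero I h''
    · exact dvd_pow_self p hj.ne'
  obtain ⟨e, he⟩ := hpd
  refine ⟨(e : ℤ), ?_⟩
  have hTval : T = (p : ℂ) * d * Nat.card (W D) := by
    rw [hT, Finset.sum_congr rfl (g := fun w => if w ∈ W D then (p : ℂ) * d else 0) fun w _ => ?_,
      Finset.sum_ite, Finset.sum_const_zero, add_zero, Finset.sum_const, nsmul_eq_mul,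
      Nat.card_eq_fintype_card, Fintype.card_subtype]
    · ring
    · by_cases hw : qh D w ∈ Q D
      · rw [eta, if_pos hw, if_pos (show w ∈ W D from hw), mul_assoc, hall w hw]
      · rw [eta, if_neg hw, if_neg (show w ∉ W D from hw), zero_mul]
  rw [classInner_def, ← hT, hTval, card_W D, he]
  push_cast
  have : (Nat.card (W D) : ℂ) ≠ 0 := card_ne_zero'
  have : (p : ℂ) ≠ 0 := Nat.cast_ne_zero.mpr hp.out.ne_zero
  field_simp

variable (ξ : IrrCharacter G) (a : ℤ)

/-- The virtual character of `G`. -/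
def Delta (g : G) : ℂ := 1 - (a : ℂ) * (ξ : G → ℂ) g

/-- Its lift. -/
def Dlift (s : S) : ℂ := psi ((ppart p s).snd) * Delta ξ a s.fst

omit [Fintype (G ⧸ (P : Subgroup G))] hp in
theorem isGen_Delta : IsGeneralizedCharacter G (Delta ξ a) := by
  have : Delta ξ a = (fun _ : G => (1 : ℂ)) - (a : ℂ) • (ξ : G → ℂ) := funext fun g => rfl
  rw [this]
  exact isGen_sub isGen_one (isGen_intCast_smul (isGen_of_irr ξ.2) a)

variable (ha : a = 1 ∨ a = -1) (hξ : (ξ : G → ℂ) ≠ fun _ => 1)
  (hsing : ∀ g : G, p ∣ orderOf g → (ξ : G → ℂ) g = (a : ℂ))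

include ha hsing in
theorem Delta_sing {g : G} (hg : p ∣ orderOf g) : Delta ξ a g = 0 := by
  rw [Delta, hsing g hg]
  rcases ha with h | h <;> subst h <;> norm_num

include ha hsing in
theorem ppart_fst_of_ne {s : S} (h : Delta ξ a s.fst ≠ 0) : (ppart p s).fst = 1 := by
  have h1 : ¬ p ∣ orderOf s.fst := fun hd => h (Delta_sing ξ a ha hsing hd)
  rw [← TExt.proj_apply, ppart_map TExt.proj s]
  exact ppart_eq (isPPart_one_iff.mpr h1)

theorem cls_fst (s c : S) : (c * s * c⁻¹).fst = c.fst * s.fst * c.fst⁻¹ := rfl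

include ha hsing in
theorem isClassFunction_Dlift : IsClassFunction S (Dlift D ξ a) := by
  intro s c
  have hD : Delta ξ a (c * s * c⁻¹).fst = Delta ξ a s.fst := by
    simp only [Delta, cls_fst, isClassFunction_of_isIrr ξ.2 s.fst c.fst]
  by_cases h : Delta ξ a s.fst = 0
  · simp [Dlift, hD, h]
  have hz := ppart_fst_of_ne D ξ a ha hsing h
  have hp' : ppart p (c * s * c⁻¹) = ppart p s := by
    rw [ppart_eq (isPPart_conj (isPPart_ppart s) c), central D hz c, mul_inv_cancel_right]
  simp only [Dlift, hp', hD]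

include ha hsing in
theorem isGen_Dlift : IsGeneralizedCharacter S (Dlift D ξ a) := by
  refine isGen_of_elementary (isClassFunction_Dlift D ξ a ha hsing) fun E r hr hE => ?_
  have := Fintype.ofFinite E
  have := isNilpotent_of_isElementary hr hE
  have hcl : IsClassFunction E fun e : E => Dlift D ξ a e := fun e c =>
    isClassFunction_Dlift D ξ a ha hsing (e : S) (c : S)
  refine isGen_of_classInner_int hcl fun χ hχ => ?_
  set n := (Nat.card S).factorization p with hn
  set m := Nat.card S / p ^ n with hm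
  have hpm : ¬ p ∣ m := Nat.not_dvd_ordCompl hp.out Nat.card_pos.ne'
  have hcop : Nat.Coprime m (p ^ n) := ((hp.out.coprime_iff_not_dvd.mpr hpm).pow_left _).symm
  have hE' : Nat.card E ∣ p ^ n * m := (Subgroup.card_subgroup_dvd_card E).trans
    (dvd_of_eq (Nat.ordProj_mul_ordCompl_eq_self _ p).symm)
  let π' : E →* E := MonoidHom.mk' (piPart (p ^ n) m) (piPart_mul hcop.symm hE')
  obtain ⟨d, hd0, hd⟩ := exists_degree_pos hχ
  have hu : ∀ e : E, Delta ξ a (e : S).fst ≠ 0 → ∃ u : E, (u : S) = ppart p (e : S) ∧ π' e = u⁻¹ * e ∧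
      (u : S).fst = 1 := by
    intro e he
    have hz := ppart_fst_of_ne D ξ a ha hsing he
    have hmem : ppart p (e : S) ∈ E :=
      (Subgroup.zpowers_le.mpr e.2) (isPPart_mem_zpowers (isPPart_ppart (e : S)))
    refine ⟨⟨_, hmem⟩, rfl, ?_, hz⟩
    obtain ⟨y, h1, h2, ⟨k, hk⟩, h4⟩ := isPPart_ppart (p := p) (e : S)
    have hyE : y ∈ E := by
      have : y = (ppart p (e : S))⁻¹ * (e : S) := eq_inv_mul_of_mul_eq h1
      rw [this]; exact mul_mem (inv_mem hmem) e.2
    have he' : e = (⟨_, hmem⟩ : E) * ⟨y, hyE⟩ := Subtype.ext h1.symm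
    show piPart (p ^ n) m e = _
    have hrhs : (⟨_, hmem⟩ : E)⁻¹ * e = ⟨y, hyE⟩ := Subtype.ext (eq_inv_mul_of_mul_eq h1).symm
    rw [hrhs]
    conv_lhs => rw [he']
    refine piPart_eq_of_mul hcop.symm (Subtype.ext h2) ?_ ?_
    · refine orderOf_dvd_iff_pow_eq_one.mp ?_
      rw [Subgroup.orderOf_mk, hk]
      refine pow_dvd_pow p ?_
      exact (Nat.Prime.pow_dvd_iff_le_factorization hp.out Nat.card_pos.ne').mp (hk ▸ orderOf_dvd_natCard _)
    · refine orderOf_dvd_iff_pow_eq_one.mp ?_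
      rw [Subgroup.orderOf_mk]
      refine ((hp.out.coprime_iff_not_dvd.mpr h4).pow_left n).symm.dvd_of_dvd_mul_left ?_
      rw [hn, hm, Nat.ordProj_mul_ordCompl_eq_self]
      exact orderOf_dvd_natCard y
  by_cases hall : ∀ u : E, (u : S).fst = 1 → psi ((u : S).snd) * conj (χ u) = (d : ℂ)
  swap
  · push Not at hall
    obtain ⟨u, hu1, hne⟩ := hall
    refine ⟨0, ?_⟩
    set T := ∑ e : E, Dlift D ξ a e * conj (χ e) with hT
    have huc : u ∈ Subgroup.center E := Subgroup.mem_center_iff.mpr fun e => Subtype.ext (central D hu1 (e : S))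
    have h : T = psi ((u : S).snd) * conj (χ u) / (d : ℂ) * T := by
      rw [hT, Finset.mul_sum, ← Equiv.sum_comp (Equiv.mulLeft u)]
      refine Finset.sum_congr rfl fun e _ => ?_
      have h1 : Dlift D ξ a ((u * e : E) : S) = psi ((u : S).snd) * Dlift D ξ a e := by
        rw [Dlift, Dlift, Subgroup.coe_mul, ppart_mul_central (central D hu1) (order_central D hu1),
          TExt.snd_mul_of_fst_one hu1, AddChar.map_add_eq_mul, TExt.mul_fst, hu1, one_mul, mul_assoc]
      rw [Equiv.coe_mulLeft, h1, CfsgLib.CharNormal.apply_central_mul' hχ huc, hd, map_div₀, map_mul,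
        Complex.conj_natCast]
      ring
    rw [classInner_def, Int.cast_zero, mul_eq_zero]
    right
    by_contra hT0
    refine hne ?_
    have h1 : psi ((u : S).snd) * conj (χ u) / (d : ℂ) = 1 := mul_right_cancel₀ hT0 (h.symm.trans (one_mul T).symm)
    rwa [div_eq_one_iff_eq (Nat.cast_ne_zero.mpr hd0.ne')] at h1
  obtain ⟨z, hz⟩ := classInner_gen_int (isGen_comp (isGen_Delta ξ a) (TExt.proj.comp E.subtype))
    (isGen_comp (isGen_of_irr hχ) π')
  refine ⟨z, ?_⟩
  rw [← hz, classInner_def, classInner_def]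
  congr 1
  refine Finset.sum_congr rfl fun e _ => ?_
  show psi ((ppart p (e : S)).snd) * Delta ξ a (e : S).fst * conj (χ e) =
    Delta ξ a (e : S).fst * conj (χ (π' e))
  by_cases he : Delta ξ a (e : S).fst = 0
  · simp [he]
  obtain ⟨u, hu1, hu2, hu3⟩ := hu e he
  have huc : u ∈ Subgroup.center E := Subgroup.mem_center_iff.mpr fun e' => Subtype.ext (central D hu3 (e' : S))
  have heu : χ e = χ u * χ (π' e) / (d : ℂ) := by
    rw [← hd, ← CfsgLib.CharNormal.apply_central_mul' hχ huc, hu2, mul_inv_cancel_left]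
  rw [← hu1, heu, map_div₀, map_mul, Complex.conj_natCast]
  have h := hall u hu3
  calc psi ((u : S).snd) * Delta ξ a (e : S).fst * (conj (χ u) * conj (χ (π' e)) / (d : ℂ))
      = (psi ((u : S).snd) * conj (χ u)) / (d : ℂ) * (Delta ξ a (e : S).fst * conj (χ (π' e))) := by ring
    _ = _ := by rw [h, div_self (Nat.cast_ne_zero.mpr hd0.ne'), one_mul]

/-- The extension of `eta`. -/
abbrev P0 : S → ℂ := sext (Ph D) (eta D I)

theorem isGen_P0 : IsGeneralizedCharacter S (P0 D I) := isGen_sext (fusInv_eta D I) (isGen_eta D I)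

theorem P0_central {s : S} (h : (ppart p s).fst = 1) : P0 D I s = (p : ℂ) * psi ((ppart p s).snd) := by
  set w : (Ph D : Subgroup S) := ⟨ppart p s, by rw [mem_Ph, h]; exact one_mem _⟩ with hw
  rw [P0, sext_eq (fusInv_eta D I) (w := w) (IsConj.refl _), eta,
    if_pos (by rw [show qh D w = 1 from Subtype.ext h]; exact one_mem _), rho_central D I (w := w) h]

include ha hsing in
theorem inner_P0_Dlift : classInner (P0 D I) (Dlift D ξ a) =
    (p : ℂ) * conj (classInner (Delta ξ a) fun _ => (1 : ℂ)) := by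
  have h : ∀ s : S, P0 D I s * conj (Dlift D ξ a s) = (p : ℂ) * conj (Delta ξ a s.fst) := by
    intro s
    by_cases hs : Delta ξ a s.fst = 0
    · simp [Dlift, hs]
    rw [P0_central D I (ppart_fst_of_ne D ξ a ha hsing hs), Dlift, map_mul]
    linear_combination (p : ℂ) * conj (Delta ξ a s.fst) * psi_conj ((ppart p s).snd)
  rw [classInner_def, classInner_def, Finset.sum_congr rfl fun s _ => h s,
    sum_S D fun g => (p : ℂ) * conj (Delta ξ a g), ← Finset.mul_sum, card_S]
  simp only [map_mul, map_inv₀, map_sum, map_one, mul_one, Complex.conj_natCast]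
  push_cast
  have : (p : ℂ) ≠ 0 := Nat.cast_ne_zero.mpr hp.out.ne_zero
  field_simp

theorem inner_Dlift : classInner (Dlift D ξ a) (Dlift D ξ a) = classInner (Delta ξ a) (Delta ξ a) := by
  have h : ∀ s : S, Dlift D ξ a s * conj (Dlift D ξ a s) = Delta ξ a s.fst * conj (Delta ξ a s.fst) := by
    intro s
    rw [Dlift, map_mul]
    linear_combination Delta ξ a s.fst * conj (Delta ξ a s.fst) * psi_conj ((ppart p s).snd)
  rw [classInner_def, classInner_def, Finset.sum_congr rfl fun s _ => h s,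
    sum_S D fun g => Delta ξ a g * conj (Delta ξ a g), card_S]
  push_cast
  have : (p : ℂ) ≠ 0 := Nat.cast_ne_zero.mpr hp.out.ne_zero
  field_simp

include I in
theorem inner_P0 : classInner (P0 D I) (P0 D I) = ((p : ℂ) * p + 1) / 2 := by
  have h : ∀ s : S, P0 D I s * conj (P0 D I s) = (p : ℂ) * p * sext P (Inverted.ind (Q D)) s.fst := by
    intro s
    obtain ⟨w, hw, h1⟩ := exists_sext (fusInv_eta D I) s
    have hw' : IsConj (ppart p s.fst) ((qh D w : (P : Subgroup G)) : G) := by
      rw [← TExt.proj_apply, ← ppart_map TExt.proj s]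
      exact TExt.proj.map_isConj hw
    rw [P0, h1, I.free.sext_eq (I.stable_ind (Q D)) hw', eta, Inverted.ind]
    split_ifs
    · rw [map_mul, Complex.conj_natCast]
      linear_combination (p : ℂ) * p * psi_conj (rho D I w)
    · simp
  rw [classInner_def, Finset.sum_congr rfl fun s _ => h s,
    sum_S D fun g => (p : ℂ) * p * sext P (Inverted.ind (Q D)) g, ← Finset.mul_sum, I.sum_sext_ind,
    card_S, card_Q D]
  push_cast
  have : (p : ℂ) ≠ 0 := Nat.cast_ne_zero.mpr hp.out.ne_zero
  have : (Nat.card G : ℂ) ≠ 0 := card_ne_zero'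
  have : (Nat.card (Q D) : ℂ) ≠ 0 := card_ne_zero'
  field_simp

include ha hξ in
omit [Fintype (G ⧸ (P : Subgroup G))] hp in
theorem inner_Delta : classInner (Delta ξ a) (fun _ => (1 : ℂ)) = 1 ∧
    classInner (Delta ξ a) (Delta ξ a) = 2 := by
  have hD : Delta ξ a = (fun _ : G => (1 : ℂ)) - (((a : ℝ) : ℂ)) • (ξ : G → ℂ) :=
    funext fun g => by simp [Delta]
  have h0 : classInner (fun _ : G => (1 : ℂ)) (ξ : G → ℂ) = 0 :=
    classInner_irr_ne (irrOne : IrrCharacter G).2 ξ.2 (fun h => hξ h.symm)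
  have h1 : classInner (fun _ : G => (1 : ℂ)) (fun _ => (1 : ℂ)) = 1 :=
    classInner_irr_self (irrOne : IrrCharacter G).2
  have h0' : classInner (ξ : G → ℂ) (fun _ => (1 : ℂ)) = 0 := by
    rw [← classInner_conj_symm, h0, map_zero]
  refine ⟨?_, ?_⟩
  · rw [hD, classInner_sub_left, classInner_smul_left, h1, h0', mul_zero, sub_zero]
  · rw [hD, norm_sub_smul, h1, h0, map_zero, classInner_irr_self ξ.2]
    rcases ha with h | h <;> subst h <;> norm_num

include D I ha hξ hsing in
/-- **The identity.** -/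
theorem identity {t : G} (ht : orderOf t = 2) :
    ((a : ℂ) * (ξ : G → ℂ) 1 - 1) * ((a : ℂ) * (ξ : G → ℂ) 1 - (a : ℂ) * (ξ : G → ℂ) t) ^ 2 = 0 := by
  obtain ⟨hD1, hD2⟩ := inner_Delta ξ a ha hξ
  have hodd : p % 2 = 1 := (hp.out.eq_two_or_odd).resolve_left I.hp2
  obtain ⟨u, hu⟩ : ∃ u : ℕ, p + 1 = 2 * u := ⟨(p + 1) / 2, by omega⟩
  have huC : (p : ℂ) = 2 * u - 1 := by
    have : ((p + 1 : ℕ) : ℂ) = ((2 * u : ℕ) : ℂ) := by rw [hu]
    push_cast at this
    linear_combination this
  set B : S → ℂ := P0 D I - ((u : ℝ) : ℂ) • Dlift D ξ a with hB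
  set A : S → ℂ := B - ((-1 : ℝ) : ℂ) • Dlift D ξ a with hA
  have hgD := isGen_Dlift D ξ a ha hsing
  have hgB : IsGeneralizedCharacter S B := by
    refine isGen_sub (isGen_P0 D I) ?_
    have := isGen_intCast_smul hgD (u : ℤ)
    simpa using this
  have hgA : IsGeneralizedCharacter S A := by
    refine isGen_sub hgB ?_
    have := isGen_intCast_smul hgD (-1)
    simpa using this
  have hip : classInner (P0 D I) (Dlift D ξ a) = (p : ℂ) := by
    rw [inner_P0_Dlift D I ξ a ha hsing, hD1, map_one, mul_one]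
  have hBB : classInner B B = 1 := by
    rw [hB, norm_sub_smul, hip, inner_P0, inner_Dlift, hD2, Complex.conj_natCast, huC]
    push_cast
    ring
  have hBD : classInner B (Dlift D ξ a) = (p : ℂ) - 2 * u := by
    rw [hB, classInner_sub_left, classInner_smul_left, hip, inner_Dlift, hD2]
    push_cast
    ring
  have hAA : classInner A A = 1 := by
    rw [hA, norm_sub_smul, hBB, hBD, inner_Dlift, hD2, map_sub, map_mul, Complex.conj_natCast,
      Complex.conj_natCast, Complex.conj_ofNat, huC]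
    push_cast
    ring
  -- the lift of the involution
  have htt : t * t = 1 := by rw [← pow_two, ← ht]; exact pow_orderOf_eq_one t
  set th : S := ⟨t, -(cocy D.f D.g t t) * half p⟩ with hth
  have hth2 : th * th = 1 := by
    refine TExt.ext htt ?_
    rw [TExt.mul_snd, TExt.one_snd]
    show -(cocy D.f D.g t t) * half p + -(cocy D.f D.g t t) * half p + cocy D.f D.g t t = 0
    linear_combination -(cocy D.f D.g t t) * two_half I
  have hreg : ∀ s : S, ¬ p ∣ orderOf s → ppart p s = 1 := fun s hs => ppart_eq (isPPart_one_iff.mpr hs)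
  have hdth : ¬ p ∣ orderOf th := by
    have h2 : orderOf th ∣ 2 := orderOf_dvd_of_pow_eq_one (by rw [pow_two, hth2])
    intro hd
    exact I.hp2 ((Nat.prime_dvd_prime_iff_eq hp.out Nat.prime_two).mp (hd.trans h2))
  have hd1 : ¬ p ∣ orderOf (1 : S) := by rw [orderOf_one]; exact hp.out.not_dvd_one
  -- the sums over pairs
  have hpair : pairSum th (Dlift D ξ a) = (p : ℂ) ^ 2 * pairSum t (Delta ξ a) := by
    have hkey : ∀ c b : S, Dlift D ξ a (c * th * c⁻¹ * (b * th * b⁻¹)) =
        Delta ξ a (c.fst * t * c.fst⁻¹ * (b.fst * t * b.fst⁻¹)) := by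
      intro c b
      set I₁ := c * th * c⁻¹ with hI₁
      set J := b * th * b⁻¹ with hJ
      have hfst : (I₁ * J).fst = c.fst * t * c.fst⁻¹ * (b.fst * t * b.fst⁻¹) := rfl
      rw [Dlift, ← hfst]
      by_cases hne : Delta ξ a (I₁ * J).fst = 0
      · rw [hne, mul_zero]
      have hz := ppart_fst_of_ne D ξ a ha hsing hne
      have hI2 : I₁ * I₁ = 1 := by rw [hI₁, show c * th * c⁻¹ * (c * th * c⁻¹) = c * (th * th) * c⁻¹ by group, hth2, mul_one, mul_inv_cancel]
      have hJ2 : J * J = 1 := by rw [hJ, show b * th * b⁻¹ * (b * th * b⁻¹) = b * (th * th) * b⁻¹ by group, hth2, mul_one, mul_inv_cancel]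
      have hinv : I₁ * (I₁ * J) * I₁⁻¹ = (I₁ * J)⁻¹ := by
        rw [← mul_assoc I₁ I₁ J, hI2, one_mul, mul_inv_rev I₁ J, inv_eq_of_mul_eq_one_left hJ2]
      set z := ppart p (I₁ * J) with hzd
      have h1 : ppart p (I₁ * J)⁻¹ = z := by
        rw [← hinv, ppart_eq (isPPart_conj (isPPart_ppart (I₁ * J)) I₁), ← hzd, central D hz I₁,
          mul_inv_cancel_right]
      have h2 : ppart p (I₁ * J)⁻¹ = z⁻¹ := by
        refine ppart_eq ?_
        obtain ⟨y, e1, e2, ⟨k, hk⟩, e4⟩ := isPPart_ppart (p := p) (I₁ * J)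
        exact ⟨y⁻¹, by rw [← mul_inv_rev, ← e2.eq, e1], e2.inv_inv, ⟨k, by rw [orderOf_inv]; exact hk⟩,
          by rwa [orderOf_inv]⟩
      have hzz : z * z = 1 := by nth_rewrite 1 [h1.symm.trans h2]; exact inv_mul_cancel z
      have hsnd : z.snd = 0 := by
        have h := congrArg TExt.snd hzz
        rw [TExt.snd_mul_of_fst_one hz, TExt.one_snd] at h
        linear_combination half p * h - z.snd * two_half I
      rw [hsnd, AddChar.map_zero_eq_one, one_mul]
    rw [pairSum, pairSum]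
    simp only [hkey]
    rw [sum_S D fun g => ∑ b : S, Delta ξ a (g * t * g⁻¹ * (b.fst * t * b.fst⁻¹)),
      Finset.mul_sum, Finset.mul_sum]
    refine Finset.sum_congr rfl fun g _ => ?_
    rw [sum_S D fun h => Delta ξ a (g * t * g⁻¹ * (h * t * h⁻¹))]
    ring
  have hΔ : pairSum t (Delta ξ a) = (Nat.card G : ℂ) ^ 2 * (1 - (a : ℂ) * ((ξ : G → ℂ) t ^ 2 / (ξ : G → ℂ) 1)) := by
    have h := pairSum_irr ξ.2 t
    simp only [pairSum, Delta, Finset.sum_sub_distrib, ← Finset.mul_sum] at h ⊢
    rw [h, Finset.sum_const, Finset.sum_const, Finset.card_univ, nsmul_eq_mul, nsmul_eq_mul, mul_one,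
      ← Nat.card_eq_fintype_card]
    ring
  obtain ⟨hA1, hLA⟩ := pairSum_norm_one hgA hAA th
  obtain ⟨hB1, hLB⟩ := pairSum_norm_one hgB hBB th
  have hlin : pairSum th A = pairSum th B + pairSum th (Dlift D ξ a) := by
    simp only [pairSum, ← Finset.sum_add_distrib]
    refine Finset.sum_congr rfl fun c _ => Finset.sum_congr rfl fun b _ => ?_
    simp [hA]
  rw [hLA, hLB, hpair, hΔ, card_S] at hlin
  set E : ℂ := (a : ℂ) * (ξ : G → ℂ) 1 with hE
  set α : ℂ := (a : ℂ) * (ξ : G → ℂ) t with hα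
  have hval : ∀ s : S, ¬ p ∣ orderOf s → B s = p - u * Delta ξ a s.fst ∧
      A s = p - u * Delta ξ a s.fst + Delta ξ a s.fst := by
    intro s hs
    have hp1 := hreg s hs
    have hP : P0 D I s = p := by
      rw [P0_central D I (by rw [hp1]; rfl), hp1, TExt.one_snd, AddChar.map_zero_eq_one, mul_one]
    have hDl : Dlift D ξ a s = Delta ξ a s.fst := by
      rw [Dlift, hp1, TExt.one_snd, AddChar.map_zero_eq_one, one_mul]
    simp [hA, hB, hP, hDl]
  have hvB1 : B 1 = p - u * (1 - E) := (hval 1 hd1).1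
  have hvA1 : A 1 = p - u * (1 - E) + (1 - E) := (hval 1 hd1).2
  have hvBt : B th = p - u * (1 - α) := (hval th hdth).1
  have hvAt : A th = p - u * (1 - α) + (1 - α) := (hval th hdth).2
  have hξ1 : (ξ : G → ℂ) 1 ≠ 0 := irr_one_ne_zero ξ.2
  have haC : (a : ℂ) * a = 1 := by rcases ha with h | h <;> subst h <;> norm_num
  have hE0 : E ≠ 0 := mul_ne_zero (fun h => by rw [h, zero_mul] at haC; exact zero_ne_one haC) hξ1
  have hfrac : (a : ℂ) * ((ξ : G → ℂ) t ^ 2 / (ξ : G → ℂ) 1) = α ^ 2 / E := by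
    rw [hα, hE]
    field_simp
  rw [hfrac, hvA1, hvB1, hvAt, hvBt] at hlin
  rw [hvA1] at hA1
  rw [hvB1] at hB1
  have hp0 : (p : ℂ) ≠ 0 := Nat.cast_ne_zero.mpr hp.out.ne_zero
  have hG0 : (Nat.card G : ℂ) ≠ 0 := card_ne_zero'
  push_cast at hlin
  field_simp at hlin
  have hu1 : (u : ℂ) ≠ 0 := Nat.cast_ne_zero.mpr (by omega)
  have hu2 : (u : ℂ) - 1 ≠ 0 := by
    rw [sub_ne_zero]
    exact_mod_cast (show u ≠ 1 by have := hp.out.two_le; omega)
  rw [huC] at hlin
  refine (mul_eq_zero.mp (?_ : ((u : ℂ) * ((u : ℂ) - 1)) * ((E - 1) * (E - α) ^ 2) = 0)).resolve_left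
    (mul_ne_zero hu1 hu2)
  linear_combination -hlin


end CfsgLib.InertialTwo
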