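import Cfsg.Agent.Lib.InertialTwo.Identity
import Cfsg.Agent.Lib.CharNormal.Kernel
import Cfsg.Agent.Lib.Cores.Basic
import Cfsg.Agent.Lib.PStab.Reduction
import Cfsg.Agent.Lib.OddLocal.Ten.PLengthTools
import Mathlib.GroupTheory.FiniteAbelian.Basic
import Mathlib.GroupTheory.Transfer

/-!
# An abelian noncyclic Sylow subgroup with inertial index two

Either `O^p(G) < G` or `G` has `p`-length one.
-/

set_option autoImplicit false

noncomputable section

namespace CfsgLib.InertialTwo

open Cfsg CfsgLib.Blocks CfsgLib.Char CfsgLib.FreeSylow CfsgLib.Star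
open scoped Classical

universe u

variable {G : Type u} [Group G] {p : ℕ} [hp : Fact p.Prime]

theorem exists_pair [Finite G] (P : Sylow p G) (hab : IsMulCommutative (P : Subgroup G))
    (hnc : ¬ IsCyclic (P : Subgroup G)) : Nonempty (Pair P) := by
  let : CommGroup (P : Subgroup G) :=
    { (inferInstance : Group (P : Subgroup G)) with mul_comm := hab.is_comm.comm }
  obtain ⟨ι, hι, n, hn1, ⟨e⟩⟩ := CommGroup.equiv_prod_multiplicative_zmod_of_finite (P : Subgroup G)
  obtain ⟨i, j, hij⟩ : ∃ i j : ι, i ≠ j := by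
    by_contra! h
    refine hnc ?_
    rw [MulEquiv.isCyclic e]
    rcases isEmpty_or_nonempty ι with hE | ⟨⟨i⟩⟩
    · infer_instance
    · have : Subsingleton ι := ⟨h⟩
      refine isCyclic_of_surjective (MonoidHom.mulSingle (fun k => Multiplicative (ZMod (n k))) i) fun w =>
        ⟨w i, funext fun k => ?_⟩
      obtain rfl := h i k
      simp
  have hdvd : ∀ k : ι, p ∣ n k := by
    intro k
    obtain ⟨m, hm⟩ := IsPGroup.iff_orderOf.mp P.isPGroup' (e.symm (Pi.mulSingle k (Multiplicative.ofAdd 1)))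
    have h : orderOf (e.symm (Pi.mulSingle k (Multiplicative.ofAdd (1 : ZMod (n k))))) = n k := by
      rw [MulEquiv.orderOf_eq, ← MonoidHom.mulSingle_apply,
        orderOf_injective (MonoidHom.mulSingle (fun k => Multiplicative (ZMod (n k))) k) (fun a b h => by simpa using congrFun h k),
        orderOf_ofAdd_eq_addOrderOf, ZMod.addOrderOf_one]
    rw [h] at hm
    rw [hm]
    refine dvd_pow_self p fun h0 => ?_
    have := hn1 k
    rw [hm, h0, pow_zero] at this
    exact lt_irrefl 1 this
  let f : ∀ k : ι, (P : Subgroup G) →* Multiplicative (ZMod p) := fun k =>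
    (AddMonoidHom.toMultiplicative (ZMod.castHom (hdvd k) (ZMod p)).toAddMonoidHom).comp
      ((Pi.evalMonoidHom (fun k => Multiplicative (ZMod (n k))) k).comp e.toMonoidHom)
  let x : ∀ _k : ι, (P : Subgroup G) := fun k => e.symm (Pi.mulSingle k (Multiplicative.ofAdd 1))
  have h1 : ∀ k, f k (x k) = Multiplicative.ofAdd 1 := fun k => by
    simp only [f, x, MonoidHom.comp_apply, MulEquiv.coe_toMonoidHom, MulEquiv.apply_symm_apply, Pi.evalMonoidHom_apply, Pi.mulSingle_eq_same]
    exact congrArg Multiplicative.ofAdd (map_one (ZMod.castHom (hdvd k) (ZMod p)))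
  have h0 : ∀ k l, k ≠ l → f k (x l) = 1 := fun k l hkl => by
    simp [f, x, Pi.mulSingle_eq_of_ne hkl]
  exact ⟨⟨f i, f j, x i, x j, h1 i, h0 j i hij.symm, h0 i j hij, h1 j⟩⟩

omit hp in
theorem two_dvd_card [Finite G] {P : Sylow p G}
    (hm : (Subgroup.centralizer ((P : Subgroup G) : Set G)).relIndex
      (Subgroup.normalizer ((P : Subgroup G) : Set G)) = 2) : 2 ∣ Nat.card G :=
  hm ▸ ((Subgroup.index_dvd_card _).trans (Subgroup.card_subgroup_dvd_card _))

/-- The case without a `p'`-core. -/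
theorem normal_of_core [Finite G] (hp2 : p ≠ 2) (P : Sylow p G) (hab : IsMulCommutative (P : Subgroup G))
    (hnc : ¬ IsCyclic (P : Subgroup G))
    (hm : (Subgroup.centralizer ((P : Subgroup G) : Set G)).relIndex
      (Subgroup.normalizer ((P : Subgroup G) : Set G)) = 2)
    (hres : pResidual p G = ⊤) (hO : pPrimeCore p G = ⊥) : (P : Subgroup G).Normal := by
  have := Fintype.ofFinite G
  have := Fintype.ofFinite (G ⧸ (P : Subgroup G))
  have I := inverted_of_residual hp2 hab hm hres
  obtain ⟨D⟩ := exists_pair P hab hnc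
  have hq : 9 ≤ Nat.card (P : Subgroup G) := by
    have h3 : 3 ≤ p := by have := hp.out.two_le; omega
    rw [card_Q D]
    exact le_trans (Nat.mul_le_mul h3 h3) (Nat.le_mul_of_pos_right _ Nat.card_pos)
  obtain ⟨ξ, a, ha, hξ, hsing⟩ := I.exists_delta hq
  obtain ⟨t, ht⟩ : ∃ t : G, orderOf t = 2 := exists_prime_orderOf_dvd_card' 2 (two_dvd_card hm)
  have hid := identity D I ξ a ha hξ hsing ht
  have hχ := isCharacter_of_isIrr ξ.2
  set K := CfsgLib.CharNormal.charKer hχ with hK
  have hKn : K.Normal := CfsgLib.CharNormal.charKer_normal hχ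
  have hpP : ∀ y ∈ (P : Subgroup G), y ≠ 1 → (ξ : G → ℂ) y = (a : ℂ) := by
    intro y hy hy1
    obtain ⟨k, hk⟩ := IsPGroup.iff_orderOf.mp P.isPGroup' ⟨y, hy⟩
    rw [Subgroup.orderOf_mk] at hk
    refine hsing y (hk ▸ dvd_pow_self p fun h0 => hy1 (orderOf_eq_one_iff.mp ?_))
    rw [hk, h0, pow_zero]
  have haC : (a : ℂ) * a = 1 := by rcases ha with h | h <;> subst h <;> norm_num
  by_cases hE : (a : ℂ) * (ξ : G → ℂ) 1 = 1
  swap
  · exfalso
    have hEα := sub_eq_zero.mp (pow_eq_zero_iff two_ne_zero |>.mp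
      ((mul_eq_zero.mp hid).resolve_left (sub_ne_zero.mpr hE)))
    have ha0 : (a : ℂ) ≠ 0 := fun h => by rw [h, zero_mul] at haC; exact zero_ne_one haC
    have htK : t ∈ K := CfsgLib.CharNormal.mem_charKer.mpr (mul_left_cancel₀ ha0 hEα).symm
    have hKO : K ≤ pPrimeCore p G := by
      refine CfsgLib.Cores.le_pPrimeCore_of_not_dvd fun hd => ?_
      obtain ⟨y, hy⟩ := exists_prime_orderOf_dvd_card' (G := K) p hd
      obtain ⟨c, hc⟩ := exists_conj_mem P (u := (y : G)) ⟨1, by rw [Subgroup.orderOf_coe, hy, pow_one]⟩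
      have hc1 : c * (y : G) * c⁻¹ ≠ 1 := by
        intro h
        rw [conj_eq_one_iff] at h
        rw [show y = 1 from Subtype.ext h, orderOf_one] at hy
        exact hp.out.one_lt.ne hy
      have h := CfsgLib.CharNormal.mem_charKer.mp (hKn.conj_mem _ y.2 c)
      rw [hpP _ hc hc1] at h
      exact hE (by rw [← h, haC])
    have h1 : t = 1 := (Subgroup.mem_bot).mp (hO ▸ hKO htK)
    rw [h1, orderOf_one] at ht
    exact absurd ht (by norm_num)
  obtain ⟨d, hd0, hd⟩ := exists_degree_pos ξ.2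
  have had : a = 1 ∧ d = 1 := by
    rw [hd] at hE
    have h : a * (d : ℤ) = 1 := by exact_mod_cast hE
    rcases ha with rfl | rfl <;> omega
  obtain ⟨rfl, rfl⟩ := had
  rw [Nat.cast_one] at hd
  simp only [Int.cast_one] at hpP hsing
  obtain ⟨φ, hφ⟩ := exists_linHom hχ hd
  have hmem : ∀ g : G, g ∈ K ↔ φ g = 1 := fun g => by
    rw [hK, CfsgLib.CharNormal.mem_charKer, hd, ← hφ, linFun_apply, Units.val_eq_one]
  have hPK : (P : Subgroup G) ≤ K := by
    intro y hy
    by_cases hy1 : y = 1
    · subst hy1; exact one_mem K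
    rw [hK, CfsgLib.CharNormal.mem_charKer, hd, hpP y hy hy1]
  have hCK : Subgroup.centralizer ((P : Subgroup G) : Set G) ≤ K := by
    intro c hc
    by_cases hpc : p ∣ orderOf c
    · rw [hK, CfsgLib.CharNormal.mem_charKer, hd, hsing c hpc]
    obtain ⟨⟨y, hy⟩, hy1⟩ : ∃ y : (P : Subgroup G), y ≠ 1 := by
      have : Nontrivial (P : Subgroup G) := Finite.one_lt_card_iff_nontrivial.mp (by omega)
      exact exists_ne 1
    have hy1' : y ≠ 1 := fun h => hy1 (Subtype.ext h)
    obtain ⟨k, hk⟩ := IsPGroup.iff_orderOf.mp P.isPGroup' ⟨y, hy⟩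
    rw [Subgroup.orderOf_mk] at hk
    have hk0 : k ≠ 0 := fun h0 => hy1' (orderOf_eq_one_iff.mp (by rw [hk, h0, pow_zero]))
    have hcomm : Commute y c := Subgroup.mem_centralizer_iff.mp hc y hy
    have hpyc : p ∣ orderOf (y * c) := by
      rw [hcomm.orderOf_mul_eq_mul_orderOf_of_coprime
        (hk ▸ (hp.out.coprime_iff_not_dvd.mpr hpc).pow_left k), hk]
      exact dvd_mul_of_dvd_left (dvd_pow_self p hk0) _
    have h := hsing _ hpyc
    rw [← hφ, linFun_apply, map_mul, (hmem y).mp (hPK hy), one_mul, Units.val_eq_one] at h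
    exact (hmem c).mpr h
  have hNK : Subgroup.normalizer ((P : Subgroup G) : Set G) ⊓ K ≤
      Subgroup.centralizer ((P : Subgroup G) : Set G) := by
    have h := Subgroup.relIndex_mul_relIndex (Subgroup.centralizer ((P : Subgroup G) : Set G))
      (Subgroup.normalizer ((P : Subgroup G) : Set G) ⊓ K) (Subgroup.normalizer ((P : Subgroup G) : Set G))
      (le_inf (Subgroup.centralizer_le_normalizer _) hCK) inf_le_left
    rw [hm] at h
    rcases (Nat.dvd_prime Nat.prime_two).mp (Dvd.intro_left _ h) with h1 | h2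
    · exfalso
      rw [Subgroup.relIndex_eq_one] at h1
      have htop : K = ⊤ := by
        have : Subgroup.normalizer ((P : Subgroup G) : Set G) ⊔ K = ⊤ := Sylow.normalizer_sup_eq_top' P hPK
        rwa [sup_eq_right.mpr (h1.trans inf_le_right)] at this
      refine hξ (funext fun g => ?_)
      rw [← hφ, linFun_apply, (hmem g).mp (htop ▸ Subgroup.mem_top g), Units.val_one]
    · rw [h2] at h
      exact Subgroup.relIndex_eq_one.mp (by omega)
  let Q : Sylow p K := P.subtype hPK
  have hburn : Subgroup.normalizer ((Q : Subgroup K) : Set K) ≤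
      Subgroup.centralizer ((Q : Subgroup K) : Set K) := by
    intro k hk
    have hkN : (k : G) ∈ Subgroup.normalizer ((P : Subgroup G) : Set G) := by
      rw [Subgroup.mem_normalizer_iff] at hk ⊢
      intro w
      constructor
      · intro hw
        exact (hk ⟨w, hPK hw⟩).mp hw
      · intro hw
        have hwK : w ∈ K := by
          have h1 := hPK hw
          have h2 := mul_mem (mul_mem (inv_mem k.2) h1) k.2
          simpa [mul_assoc] using h2
        exact (hk ⟨w, hwK⟩).mpr hw
    have hkC := hNK ⟨hkN, k.2⟩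
    exact Subgroup.mem_centralizer_iff.mpr fun w hw =>
      Subtype.ext (Subgroup.mem_centralizer_iff.mp hkC (w : G) hw)
  have hcomp := MonoidHom.ker_transferSylow_isComplement' Q hburn
  have hR : (MonoidHom.transferSylow Q hburn).ker = ⊥ := by
    refine (Subgroup.map_eq_bot_iff_of_injective _ K.subtype_injective).mp (le_bot_iff.mp ?_)
    refine le_trans (Subgroup.map_mono (CfsgLib.Cores.le_pPrimeCore_of_not_dvd
      (MonoidHom.not_dvd_card_ker_transferSylow Q hburn))) ?_
    exact (CfsgLib.Cores.map_subtype_pPrimeCore_le_of_normal p K).trans hO.le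
  rw [hR, Subgroup.isComplement'_bot_left] at hcomp
  have hPeq : (P : Subgroup G) = K := le_antisymm hPK fun k hk => by
    have : (⟨k, hk⟩ : K) ∈ (Q : Subgroup K) := hcomp ▸ Subgroup.mem_top _
    exact this
  exact hPeq ▸ hKn

/-- **Inertial index two.** -/
theorem pLengthLE_one [Finite G] (hp2 : p ≠ 2) (P : Sylow p G) (hab : IsMulCommutative (P : Subgroup G))
    (hnc : ¬ IsCyclic (P : Subgroup G))
    (hm : (Subgroup.centralizer ((P : Subgroup G) : Set G)).relIndex
      (Subgroup.normalizer ((P : Subgroup G) : Set G)) = 2)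
    (hres : pResidual p G = ⊤) : PLengthLE p 1 G := by
  set O := pPrimeCore p G with hOdef
  set π := QuotientGroup.mk' O with hπ
  have hsurj : Function.Surjective π := QuotientGroup.mk'_surjective O
  set P' : Sylow p (G ⧸ O) := P.mapSurjective hsurj with hP'
  have hdisj : ∀ w ∈ (P : Subgroup G), w ∈ O → w = 1 := by
    intro w hw hwO
    obtain ⟨k, hk⟩ := IsPGroup.iff_orderOf.mp P.isPGroup' ⟨w, hw⟩
    rw [Subgroup.orderOf_mk] at hk
    refine orderOf_eq_one_iff.mp (Nat.eq_one_of_dvd_coprimes ?_ dvd_rfl (Subgroup.orderOf_dvd_natCard _ hwO))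
    rw [hk]
    exact (Nat.Coprime.symm (CfsgLib.Cores.coprime_card_pPrimeCore p)).pow_left k
  have hab' : IsMulCommutative (P' : Subgroup (G ⧸ O)) := by
    refine ⟨⟨?_⟩⟩
    rintro ⟨_, u, hu, rfl⟩ ⟨_, v, hv, rfl⟩
    refine Subtype.ext ?_
    show π u * π v = π v * π u
    rw [← map_mul, ← map_mul]
    exact congrArg π (congrArg Subtype.val (hab.is_comm.comm ⟨u, hu⟩ ⟨v, hv⟩))
  have hnc' : ¬ IsCyclic (P' : Subgroup (G ⧸ O)) := by
    intro h
    refine hnc ?_
    let ψ : (P : Subgroup G) →* (P' : Subgroup (G ⧸ O)) := π.subgroupMap (P : Subgroup G)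
    have hinj : Function.Injective ψ := (injective_iff_map_eq_one ψ).mpr fun w hw =>
      Subtype.ext (hdisj w w.2 ((QuotientGroup.eq_one_iff _).mp (congrArg Subtype.val hw)))
    exact isCyclic_of_injective ψ hinj
  have hm' : (Subgroup.centralizer ((P' : Subgroup (G ⧸ O)) : Set (G ⧸ O))).relIndex
      (Subgroup.normalizer ((P' : Subgroup (G ⧸ O)) : Set (G ⧸ O))) = 2 := by
    have hN : Subgroup.normalizer ((P' : Subgroup (G ⧸ O)) : Set (G ⧸ O)) =
        (Subgroup.normalizer ((P : Subgroup G) : Set G)).map π :=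
      le_antisymm (CfsgLib.PStab.normalizer_map_le (CfsgLib.Cores.coprime_card_pPrimeCore p) P.isPGroup')
        (Subgroup.le_normalizer_map π)
    rw [hN, ← Subgroup.relIndex_comap, ← Subgroup.inf_relIndex_right, ← hm]
    congr 1
    refine le_antisymm (fun n hn => ?_) fun n hn => ⟨?_, Subgroup.centralizer_le_normalizer _ hn⟩
    · refine Subgroup.mem_centralizer_iff.mpr fun w hw => ?_
      have hnw : n * w * n⁻¹ * w⁻¹ ∈ O := by
        rw [← QuotientGroup.eq_one_iff (N := O)]
        have h := Subgroup.mem_centralizer_iff.mp hn.1 (π w) ⟨w, hw, rfl⟩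
        show π (n * w * n⁻¹ * w⁻¹) = 1
        rw [map_mul, map_mul, map_mul, map_inv, map_inv, ← h, mul_inv_cancel_right, mul_inv_cancel]
      have h1 := hdisj _ (mul_mem ((Subgroup.mem_normalizer_iff.mp hn.2 w).mp hw) (inv_mem hw)) hnw
      exact (mul_inv_eq_iff_eq_mul.mp (mul_inv_eq_one.mp h1)).symm
    · refine Subgroup.mem_comap.mpr (Subgroup.mem_centralizer_iff.mpr ?_)
      rintro _ ⟨w, hw, rfl⟩
      rw [← map_mul, ← map_mul, Subgroup.mem_centralizer_iff.mp hn w hw]
  have hres' : pResidual p (G ⧸ O) = ⊤ := by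
    rw [← CfsgLib.Transfer.map_pResidual_of_surjective π hsurj, hres, Subgroup.map_top_of_surjective π hsurj]
  have hn := normal_of_core hp2 P' hab' hnc' hm' hres' (CfsgLib.Cores.pPrimeCore_quotient_self p)
  refine CfsgLib.OddLocal.Ten.pLengthLE_one_of_pPrimePCore ?_
  unfold pPrimePCore
  rw [Subgroup.index_comap_of_surjective _ hsurj, CfsgLib.Cores.pCore_eq_of_normal_sylow P']
  exact CfsgLib.Transfer.coprime_of_not_dvd P'.not_dvd_index

end CfsgLib.InertialTwo
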